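/-
The scalars in a core group, and power classes lifted from the simple quotient.
-/
import Cfsg.Agent.Lib.Geo.SL3.Basic
import Cfsg.Agent.Lib.Known.SL2Multiplier
import Cfsg.Agent.Lib.Known.SLn.Multiplier
import Cfsg.Agent.Lib.Schur.Functor
import Cfsg.Agent.Lib.Classical.PSLTwoSimple
import Cfsg.Agent.Lib.Classical.LinearOrder

set_option autoImplicit false

namespace CfsgLib.Geo.SL3.Residual

open Cfsg.Geo
open scoped MatrixGroups

variable {F : Type*} [Field F] {L : Subgroup (GL (Fin 3) F)}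

/-- The scalar part has exponent three. -/
theorem scalar_pow_three (hL : L ≤ specialLinear (Fin 3) F) {z : L} (hz : z ∈ (scalars (Fin 3) F).subgroupOf L) :
    z ^ 3 = 1 := by
  obtain ⟨c, hc⟩ := (mem_scalars_iff _).1 (Subgroup.mem_subgroupOf.1 hz)
  have hd : Matrix.GeneralLinearGroup.det (z : GL (Fin 3) F) = 1 := hL z.2
  have hd' := congrArg Units.val hd
  rw [Matrix.GeneralLinearGroup.val_det_apply, hc, Matrix.det_smul, Matrix.det_one, mul_one, Fintype.card_fin,
    Units.val_one] at hd'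
  refine Subtype.ext (Units.ext ?_)
  rw [SubmonoidClass.coe_pow, Units.val_pow_eq_pow_val, hc, smul_pow, one_pow, hd', one_smul, OneMemClass.coe_one,
    Units.val_one]

theorem scalar_central {z : L} (hz : z ∈ (scalars (Fin 3) F).subgroupOf L) : z ∈ Subgroup.center L := by
  obtain ⟨c, hc⟩ := (mem_scalars_iff _).1 (Subgroup.mem_subgroupOf.1 hz)
  refine Subgroup.mem_center_iff.2 fun g => Subtype.ext (Units.ext ?_)
  rw [Subgroup.coe_mul, Subgroup.coe_mul, Units.val_mul, Units.val_mul, hc]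
  simp

/-- Over PSL(2) with trivial exceptional multiplier the core group has no scalars. -/
theorem scalars_trivial [Finite F] (hL : IsCore L) {K : Type*} [Field K] [Fintype K]
    (hodd : Odd (Fintype.card K)) (h3 : 3 < Fintype.card K) (h9 : Fintype.card K ≠ 9)
    (e : (L ⧸ (scalars (Fin 3) F).subgroupOf L) ≃* Matrix.ProjectiveSpecialLinearGroup (Fin 2) K) :
    (scalars (Fin 3) F).subgroupOf L = ⊥ := by
  classical
  have h4 : Fintype.card K ≠ 4 := fun h => by
    rw [h] at hodd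
    exact absurd hodd (by decide)
  have hperf : commutator SL(2, K) = ⊤ := CfsgLib.Classical.commutator_SL_two_eq_top h3
  have htriv := CfsgLib.Schur.hasCyclicSchurMultiplier_one_iff.1
    (CfsgLib.Known.SL2Mult.hasCyclicSchurMultiplier_SL_two (F := K) h4 h9)
  let θ : SL(2, K) →* Matrix.ProjectiveSpecialLinearGroup (Fin 2) K := QuotientGroup.mk' _
  have hθk : θ.ker = Subgroup.center SL(2, K) := QuotientGroup.ker_mk' _
  letI : CommGroup (Subgroup.center SL(2, K)) :=
    { (inferInstance : Group (Subgroup.center SL(2, K))) with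
      mul_comm := fun a b => Subtype.ext (Subgroup.mem_center_iff.1 b.2 a) }
  have hmult := CfsgLib.Known.SLn.hasSchurMultiplier_of_cover hperf (fun Γ _ _ σ hσ => by
      rw [← Subgroup.card_le_one_iff_eq_bot]
      have := CfsgLib.Schur.card_inf_le (ξ := σ) hσ.1 hσ.2.1
      rwa [htriv, Subgroup.card_bot, inf_eq_left.2 hσ.2.2] at this)
    θ (QuotientGroup.mk'_surjective _) (le_of_eq hθk)
    (A := Subgroup.center SL(2, K)) (MulEquiv.subgroupCongr hθk)
  obtain ⟨em⟩ := CfsgLib.Schur.nonempty_equiv_of_hasSchurMultiplier hmult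
  have hm2 : Nat.card (CfsgLib.Schur.mult (Matrix.ProjectiveSpecialLinearGroup (Fin 2) K)) ≤ 2 := by
    rw [← Nat.card_congr em.toEquiv, CfsgLib.Classical.card_center_SL, Fintype.card_fin]
    exact Nat.le_of_dvd two_pos (Nat.gcd_dvd_left _ _)
  set Z := (scalars (Fin 3) F).subgroupOf L with hZ
  let ξ : L →* Matrix.ProjectiveSpecialLinearGroup (Fin 2) K := e.toMonoidHom.comp (QuotientGroup.mk' Z)
  have hk : ξ.ker = Z := by
    ext z
    simp [ξ]
  have hLc : commutator L = ⊤ := by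
    apply Subgroup.map_injective L.subtype_injective
    rw [commutator_def, Subgroup.map_commutator, ← MonoidHom.range_eq_map, Subgroup.range_subtype, hL.perfect]
  have hle := CfsgLib.Schur.card_inf_le (ξ := ξ) (e.surjective.comp (QuotientGroup.mk'_surjective _))
    (hk ▸ fun z hz => scalar_central hz)
  rw [hk, hLc, inf_top_eq] at hle
  rw [Subgroup.eq_bot_iff_forall]
  intro z hz
  have h3z := scalar_pow_three hL.le hz
  rcases (Nat.dvd_prime Nat.prime_three).1 (orderOf_dvd_of_pow_eq_one h3z) with h | h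
  · exact orderOf_eq_one_iff.1 h
  · have hb : orderOf z ≤ Nat.card Z := by
      rw [← Nat.card_zpowers]
      exact Nat.le_of_dvd Nat.card_pos (Subgroup.card_dvd_of_le (Subgroup.zpowers_le.2 hz))
    omega

/-- Traces of powers from conjugacy modulo scalars, away from three. -/
theorem trace_zpow_eq (hL : L ≤ specialLinear (Fin 3) F) {g h : L} {n : ℕ} {a b : ℤ}
    (hn : g ^ n ∈ (scalars (Fin 3) F).subgroupOf L) (h3 : ¬ 3 ∣ n)
    (hab : (3 : ℤ) ∣ a - b ∨ (scalars (Fin 3) F).subgroupOf L = ⊥)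
    (hc : (h * g ^ a * h⁻¹)⁻¹ * g ^ b ∈ (scalars (Fin 3) F).subgroupOf L) :
    (((g ^ a : L) : GL (Fin 3) F) : Matrix (Fin 3) (Fin 3) F).trace =
      (((g ^ b : L) : GL (Fin 3) F) : Matrix (Fin 3) (Fin 3) F).trace := by
  set Z := (scalars (Fin 3) F).subgroupOf L with hZ
  have hco : Nat.Coprime 3 n := (Nat.prime_three.coprime_iff_not_dvd).2 h3
  obtain ⟨u, v, huv⟩ : ∃ u v : ℤ, 3 * u + (n : ℤ) * v = 1 := ⟨Nat.gcdA 3 n, Nat.gcdB 3 n, by
    have := Nat.gcd_eq_gcd_ab 3 n
    rw [hco.gcd_eq_one] at this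
    push_cast at this
    linarith⟩
  -- the scalar part and the part of order prime to three
  set d := (g ^ n) ^ v with hd
  set y := g ^ (3 * u) with hy
  have hgd : g = d * y := by
    rw [hd, hy, ← zpow_natCast, ← zpow_mul, ← zpow_add, add_comm, huv, zpow_one]
  have hdZ : d ∈ Z := zpow_mem hn _
  have hcomm : Commute d y := (((Commute.refl g).pow_left n).zpow_left v).zpow_right (3 * u)
  have hyn : y ^ (n : ℤ) = 1 := by
    rw [hy, ← zpow_mul, show (3 * u * (n : ℤ)) = (n : ℤ) * (3 * u) by ring, zpow_mul, zpow_natCast, zpow_mul,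
      show (g ^ n) ^ (3 : ℤ) = 1 from by exact_mod_cast scalar_pow_three hL hn, one_zpow]
  have hd3 : d ^ (3 : ℤ) = 1 := by exact_mod_cast scalar_pow_three hL hdZ
  have hdab : d ^ a = d ^ b := by
    rcases hab with ⟨w, hw⟩ | h
    · rw [show a = 3 * w + b by omega, zpow_add, zpow_mul, hd3, one_zpow, one_mul]
    · have hd1 : d = 1 := (Subgroup.eq_bot_iff_forall Z).1 h d hdZ
      rw [hd1, one_zpow, one_zpow]
  have hs : (h * y ^ a * h⁻¹)⁻¹ * y ^ b ∈ Z := by
    have e1 : (h * g ^ a * h⁻¹)⁻¹ * g ^ b = (h * y ^ a * h⁻¹)⁻¹ * y ^ b := by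
      have hcen := Subgroup.mem_center_iff.1 (scalar_central (zpow_mem hdZ a))
      rw [hgd, hcomm.mul_zpow, hcomm.mul_zpow, ← hdab, ← mul_assoc h, hcen h, mul_assoc (d ^ a), mul_assoc (d ^ a),
        _root_.mul_inv_rev, mul_assoc, inv_mul_cancel_left]
    rwa [e1] at hc
  set s := (h * y ^ a * h⁻¹)⁻¹ * y ^ b with hsdef
  have hyb : y ^ b = (h * y ^ a * h⁻¹) * s := by rw [hsdef, mul_inv_cancel_left]
  have hs1 : s = 1 := by
    have hsc : Commute (h * y ^ a * h⁻¹) s := Subgroup.mem_center_iff.1 (scalar_central hs) _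
    have hcn := congrArg (fun x : L => x ^ (n : ℤ)) hyb
    have hp : ∀ c : ℤ, (y ^ c) ^ (n : ℤ) = 1 := fun c => by
      rw [← zpow_mul, mul_comm, zpow_mul, hyn, one_zpow]
    rw [hsc.mul_zpow, conj_zpow, hp, hp, mul_one, mul_inv_cancel, one_mul] at hcn
    have hs3 : s ^ (3 : ℤ) = 1 := by exact_mod_cast scalar_pow_three hL hs
    calc s = (s ^ (3 : ℤ)) ^ u * (s ^ (n : ℤ)) ^ v := by rw [← zpow_mul, ← zpow_mul, ← zpow_add, huv, zpow_one]
      _ = 1 := by rw [hs3, ← hcn, one_zpow, one_zpow, one_mul]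
  rw [hgd, hcomm.mul_zpow, hcomm.mul_zpow, ← hdab, hyb, hs1, mul_one]
  obtain ⟨c, hc'⟩ := (mem_scalars_iff _).1 (Subgroup.mem_subgroupOf.1 (zpow_mem hdZ a))
  simp only [Subgroup.coe_mul, Units.val_mul, hc', Matrix.smul_mul, one_mul, Matrix.trace_smul]
  rw [Matrix.trace_mul_cycle, Subgroup.coe_inv, Units.inv_mul, one_mul]

/-- A real element whose order modulo scalars is divisible by three has that order. -/
theorem pow_eq_one_of_real (hL : L ≤ specialLinear (Fin 3) F) {g h : L} {n : ℕ}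
    (hn : g ^ n ∈ (scalars (Fin 3) F).subgroupOf L) (h3 : 3 ∣ n)
    (hc : (h * g * h⁻¹)⁻¹ * g⁻¹ ∈ (scalars (Fin 3) F).subgroupOf L) : g ^ n = 1 := by
  set s := (h * g * h⁻¹)⁻¹ * g⁻¹ with hs
  have hg : g⁻¹ = (h * g * h⁻¹) * s := by rw [hs, mul_inv_cancel_left]
  have hsn : s ^ n = 1 := by
    obtain ⟨m, rfl⟩ := h3
    rw [pow_mul, scalar_pow_three hL hc, one_pow]
  have hsc : Commute (h * g * h⁻¹) s := Subgroup.mem_center_iff.1 (scalar_central hc) _
  have e : (g ^ n)⁻¹ = g ^ n := by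
    rw [← inv_pow, hg, hsc.mul_pow, hsn, mul_one, conj_pow, Subgroup.mem_center_iff.1 (scalar_central hn) h,
      mul_inv_cancel_right]
  have h2 : (g ^ n) ^ 2 = 1 := by
    rw [sq]
    nth_rewrite 1 [← e]
    exact inv_mul_cancel _
  have := scalar_pow_three hL hn
  rwa [pow_succ, h2, one_mul] at this

end CfsgLib.Geo.SL3.Residual
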