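/-
A homomorphism between matrix rings sending scalars to scalars is a conjugation.
-/
import Cfsg.Agent.Lib.Geo.Asch.Span

set_option autoImplicit false

namespace CfsgLib.Geo.SL3.Residual

open Matrix

variable {ι : Type} [Fintype ι] [DecidableEq ι] {K : Type*} [Field K] {F : Type*} [Field F]

theorem exists_conj_of_ringHom [Nonempty ι] (f : K →+* F) (φ : Matrix ι ι K →+* Matrix ι ι F)
    (hs : ∀ a : K, φ (a • (1 : Matrix ι ι K)) = f a • (1 : Matrix ι ι F)) :
    ∃ B : GL ι F, ∀ Y : Matrix ι ι K,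
      φ Y = (B : Matrix ι ι F) * Y.map f * ((B⁻¹ : GL ι F) : Matrix ι ι F) := by
  classical
  obtain ⟨o⟩ := ‹Nonempty ι›
  have hlin : ∀ (a : K) Y, φ (a • Y) = f a • φ Y := fun a Y => by
    rw [← smul_one_mul a Y, map_mul, hs, smul_one_mul]
  let E : ι → ι → Matrix ι ι K := fun i j => Matrix.single i j (1 : K)
  have hEE : ∀ i, E i o * E o i = E i i := fun i => by simp [E]
  have hne : φ (E o o) ≠ 0 := by
    intro h0
    have h1 : ∀ i, φ (E i i) = 0 := fun i => by
      rw [show E i i = E i o * E o o * E o i by simp [E], map_mul, map_mul, h0, mul_zero, zero_mul]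
    have h2 : φ 1 = 0 := by
      rw [← Matrix.sum_single_one (m := ι) (α := K), map_sum]
      exact Finset.sum_eq_zero fun i _ => h1 i
    rw [map_one] at h2
    exact one_ne_zero h2
  obtain ⟨u, hu⟩ : ∃ u, φ (E o o) *ᵥ u ≠ 0 := by
    by_contra! hall
    exact hne (Matrix.ext_iff_mulVec.2 fun u => by rw [hall u, Matrix.zero_mulVec])
  set v := φ (E o o) *ᵥ u with hv
  have hvv : φ (E o o) *ᵥ v = v := by
    rw [hv, Matrix.mulVec_mulVec, ← map_mul, show E o o * E o o = E o o by simp [E]]
  let C : Matrix ι ι F := Matrix.of fun a i => (φ (E i o) *ᵥ v) a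
  have hC : ∀ w, C *ᵥ w = ∑ i, w i • (φ (E i o) *ᵥ v) := fun w => by
    funext a
    simp [C, Matrix.mulVec, dotProduct, Finset.sum_apply, Finset.mul_sum, mul_comm]
  have hinj : ∀ w, C *ᵥ w = 0 → w = 0 := by
    intro w hw
    funext j
    have h := congrArg (fun x => φ (E o j) *ᵥ x) hw
    simp only [hC, Matrix.mulVec_sum, Matrix.mulVec_zero] at h
    rw [Finset.sum_eq_single j, Matrix.mulVec_smul, Matrix.mulVec_mulVec, ← map_mul,
      show E o j * E j o = E o o by simp [E], hvv] at h
    · exact (smul_eq_zero.1 h).resolve_right hu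
    · intro i _ hi
      rw [Matrix.mulVec_smul, Matrix.mulVec_mulVec, ← map_mul,
        show E o j * E i o = 0 by simp [E, Matrix.single_mul_single_of_ne, hi.symm], map_zero, Matrix.zero_mulVec, smul_zero]
    · simp
  have hdet : C.det ≠ 0 := by
    intro h0
    obtain ⟨w, hw, hw'⟩ := Matrix.exists_mulVec_eq_zero_iff.2 h0
    exact hw (hinj w hw')
  let B := Matrix.GeneralLinearGroup.mkOfDetNeZero C hdet
  have key : ∀ Y, φ Y * C = C * Y.map f := by
    intro Y
    refine Matrix.ext_iff_mulVec.2 fun w => ?_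
    rw [← Matrix.mulVec_mulVec, ← Matrix.mulVec_mulVec, hC, hC, Matrix.mulVec_sum]
    have hY : ∀ j, Y * E j o = ∑ i, Y i j • E i o := fun j => by
      ext a b
      simp only [E, Matrix.sum_apply, Matrix.smul_apply, smul_eq_mul, Matrix.single_apply]
      by_cases hb : o = b
      · subst hb; simp
      · simp [Matrix.mul_apply, hb]
    simp only [Matrix.mulVec_smul, Matrix.mulVec_mulVec, ← map_mul, hY, map_sum, hlin, Matrix.sum_mulVec,
      Matrix.smul_mulVec, Finset.smul_sum, smul_smul]
    rw [Finset.sum_comm]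
    refine Finset.sum_congr rfl fun i _ => ?_
    rw [← Finset.sum_smul]
    congr 1
    simp [Matrix.mulVec, dotProduct, mul_comm]
  refine ⟨B, fun Y => ?_⟩
  rw [show (B : Matrix ι ι F) = C from rfl, ← key Y, Matrix.mul_assoc]
  show _ = φ Y * ((B : Matrix ι ι F) * _)
  rw [← Units.val_mul, mul_inv_cancel, Units.val_one, mul_one]

end CfsgLib.Geo.SL3.Residual
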