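/-
Traces of an absolutely irreducible group: descent to a subfield, and invariant forms.
-/
import Cfsg.Agent.Lib.Geo.SL3.Residual.Units
import Cfsg.Agent.Lib.Geo.Asch.InvForm
import Mathlib.RingTheory.SimpleModule.WedderburnArtin
import Mathlib.RingTheory.LittleWedderburn

set_option autoImplicit false

namespace CfsgLib.Geo.SL3.Residual

open Matrix Cfsg.Geo

variable {ι : Type} [Fintype ι] [DecidableEq ι] [Nonempty ι] {F : Type*} [Field F]

/-- A matrix orthogonal to an absolutely irreducible group for the trace form vanishes. -/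
theorem eq_zero_of_trace {N : Subgroup (GL ι F)} (hN : ActsAbsolutelyIrreducibly (matrixSet N))
    {D : Matrix ι ι F} (h : ∀ g ∈ N, (D * (g : Matrix ι ι F)).trace = 0) : D = 0 := by
  have hz : ∀ X, (D * X).trace = 0 := fun X => by
    have hX : X ∈ Submodule.span F (matrixSet N) := Asch.span_eq_top hN ▸ Submodule.mem_top
    induction hX using Submodule.span_induction with
    | mem x hx => obtain ⟨g, hg, rfl⟩ := hx; exact h g hg
    | zero => simp
    | add x y _ _ hx hy => rw [mul_add, Matrix.trace_add, hx, hy, add_zero]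
    | smul c x _ hx => rw [Matrix.mul_smul, Matrix.trace_smul, hx, smul_zero]
  ext i j
  simpa [Matrix.trace_mul_single] using hz (Matrix.single j i 1)

/-- A basis of the matrix algebra taken from the group. -/
theorem exists_basis {N : Subgroup (GL ι F)} (hN : ActsAbsolutelyIrreducibly (matrixSet N)) :
    ∃ (κ : Set (Matrix ι ι F)) (b : Module.Basis κ F (Matrix ι ι F)), κ ⊆ matrixSet N ∧ ∀ i : κ, b i = i := by
  obtain ⟨κ, hκ, hspan, hli⟩ := exists_linearIndependent F (matrixSet N)
  refine ⟨κ, Module.Basis.mk hli (by rw [Subtype.range_coe, hspan, Asch.span_eq_top hN]), hκ, fun i => ?_⟩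
  rw [Module.Basis.mk_apply]

/-- Two representations with the same trace. -/
theorem exists_conj_of_trace_eq {N : Subgroup (GL ι F)} (hN : ActsAbsolutelyIrreducibly (matrixSet N))
    (ρ : N →* GL ι F) (ht : ∀ g : N, ((ρ g : GL ι F) : Matrix ι ι F).trace = ((g : GL ι F) : Matrix ι ι F).trace)
    (hnd : ∀ D : Matrix ι ι F, (∀ g : N, (D * ((ρ g : GL ι F) : Matrix ι ι F)).trace = 0) → D = 0) :
    ∃ B : GL ι F, ∀ g : N, ρ g = B * (g : GL ι F) * B⁻¹ := by
  classical
  obtain ⟨κ, b, hκ, hb⟩ := exists_basis hN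
  choose! c hcmem hc using fun x (hx : x ∈ κ) => hκ hx
  let φ : Matrix ι ι F →ₗ[F] Matrix ι ι F :=
    b.constr F fun i => ((ρ ⟨c i, hcmem _ i.2⟩ : GL ι F) : Matrix ι ι F)
  have hφ : ∀ a, ∀ h : N, (φ a * ((ρ h : GL ι F) : Matrix ι ι F)).trace =
      (a * ((h : GL ι F) : Matrix ι ι F)).trace := by
    intro a h
    let Φ : Matrix ι ι F →ₗ[F] F := (Matrix.traceLinearMap ι F F).comp
      ((LinearMap.mulRight F ((ρ h : GL ι F) : Matrix ι ι F)).comp φ)
    let Ψ : Matrix ι ι F →ₗ[F] F := (Matrix.traceLinearMap ι F F).comp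
      (LinearMap.mulRight F ((h : GL ι F) : Matrix ι ι F))
    have : Φ = Ψ := b.ext fun i => by
      show (φ (b i) * _).trace = (b i * _).trace
      rw [Module.Basis.constr_basis, ← Units.val_mul, ← map_mul, ht, hb]
      conv_rhs => rw [← hc _ i.2]
      rfl
    exact LinearMap.congr_fun this a
  have hgrp : ∀ g : N, φ ((g : GL ι F) : Matrix ι ι F) = ((ρ g : GL ι F) : Matrix ι ι F) := by
    intro g
    refine sub_eq_zero.1 (hnd _ fun h => ?_)
    rw [sub_mul, Matrix.trace_sub, hφ, sub_eq_zero, ← Units.val_mul (ρ g), ← map_mul, ht]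
    rfl
  have hmul : ∀ x y, φ (x * y) = φ x * φ y := by
    intro x y
    have hx : x ∈ Submodule.span F (matrixSet N) := Asch.span_eq_top hN ▸ Submodule.mem_top
    induction hx using Submodule.span_induction with
    | mem s hs =>
      obtain ⟨g, hg, rfl⟩ := hs
      have hy : y ∈ Submodule.span F (matrixSet N) := Asch.span_eq_top hN ▸ Submodule.mem_top
      induction hy using Submodule.span_induction with
      | mem s hs =>
        obtain ⟨h, hh, rfl⟩ := hs
        have := hgrp (⟨g, hg⟩ * ⟨h, hh⟩)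
        rw [map_mul, Units.val_mul, ← hgrp, ← hgrp] at this
        simpa using this
      | zero => simp
      | add u v _ _ hu hv => rw [mul_add, map_add, hu, hv, map_add, mul_add]
      | smul a u _ hu => rw [Matrix.mul_smul, map_smul, hu, map_smul, Matrix.mul_smul]
    | zero => simp
    | add u v _ _ hu hv => rw [add_mul, map_add, hu, hv, map_add, add_mul]
    | smul a u _ hu => rw [Matrix.smul_mul, map_smul, hu, map_smul, Matrix.smul_mul]
  have hone : φ 1 = 1 := by
    have := hgrp 1
    rwa [map_one, OneMemClass.coe_one, Units.val_one] at this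
  let ψ : Matrix ι ι F →+* Matrix ι ι F :=
    { toFun := φ, map_one' := hone, map_mul' := hmul, map_zero' := map_zero φ, map_add' := map_add φ }
  obtain ⟨B, hB⟩ := exists_conj_of_ringHom (RingHom.id F) ψ
    (fun a => by show φ _ = _; rw [map_smul, hone]; rfl)
  refine ⟨B, fun g => Units.ext ?_⟩
  rw [← hgrp]
  simpa [ψ] using hB ((g : GL ι F) : Matrix ι ι F)

/-- Traces fixed by inversion followed by `σ` give a sesquilinear form. -/
theorem exists_form_of_trace {N : Subgroup (GL ι F)} (hN : ActsAbsolutelyIrreducibly (matrixSet N))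
    {σ : F ≃+* F}
    (ht : ∀ g ∈ N, σ ((g : GL ι F) : Matrix ι ι F).trace = ((g⁻¹ : GL ι F) : Matrix ι ι F).trace)
    (hinv : ∀ a, σ (σ a) = a) :
    ∃ f : (ι → F) → (ι → F) → F, Asch.IsSesqForm σ f ∧ IsNondegenerateForm f ∧ FixesForm (matrixSet N) f := by
  classical
  let S : GL ι F →* GL ι F := Units.map (RingHom.mapMatrix (σ : F →+* F)).toMonoidHom
  have hS : ∀ g : GL ι F, ((S g : GL ι F) : Matrix ι ι F) = (g : Matrix ι ι F).map σ := fun g => rfl
  let T : GL ι F →* GL ι F :=
    { toFun := fun g => ⟨((g⁻¹ : GL ι F) : Matrix ι ι F)ᵀ, (g : Matrix ι ι F)ᵀ,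
        by rw [← Matrix.transpose_mul, ← Units.val_mul, mul_inv_cancel, Units.val_one, Matrix.transpose_one],
        by rw [← Matrix.transpose_mul, ← Units.val_mul, inv_mul_cancel, Units.val_one, Matrix.transpose_one]⟩
      map_one' := Units.ext (by simp)
      map_mul' := fun a b => Units.ext (by simp [_root_.mul_inv_rev, Matrix.transpose_mul]) }
  let ρ : N →* GL ι F := (T.comp S).comp N.subtype
  have hρ : ∀ g : N, ((ρ g : GL ι F) : Matrix ι ι F) =
      ((((g : GL ι F)⁻¹ : GL ι F) : Matrix ι ι F).map σ)ᵀ := fun g => by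
    show ((((S (g : GL ι F))⁻¹ : GL ι F) : Matrix ι ι F))ᵀ = _
    rw [← map_inv, hS]
  have htr : ∀ X : Matrix ι ι F, (X.map σ).trace = σ X.trace := fun X => by
    simp [Matrix.trace, map_sum]
  obtain ⟨B, hB⟩ := exists_conj_of_trace_eq hN ρ
    (fun g => by
      rw [hρ, Matrix.trace_transpose, htr, ← ht _ g.2, hinv])
    (fun D hD => by
      have hz : (Dᵀ).map σ = 0 := eq_zero_of_trace hN fun g hg => by
        have h1 := hD (⟨g, hg⟩⁻¹)
        rw [hρ, InvMemClass.coe_inv, inv_inv, ← Matrix.trace_transpose, Matrix.transpose_mul,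
          Matrix.transpose_transpose, Matrix.trace_mul_comm] at h1
        calc ((Dᵀ).map σ * (g : Matrix ι ι F)).trace
            = ((Dᵀ).map σ * ((g : Matrix ι ι F).map σ).map σ).trace := by
              rw [Matrix.map_map, show ((σ : F → F) ∘ σ) = id from funext hinv, Matrix.map_id]
          _ = σ (Dᵀ * (g : Matrix ι ι F).map σ).trace := by rw [← htr, Matrix.map_mul]
          _ = 0 := by rw [h1, map_zero]
      have : Dᵀ = 0 := Matrix.map_injective σ.injective (by simpa using hz)
      simpa using this)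
  let M : Matrix ι ι F := (B : Matrix ι ι F)
  have hM : ∀ g ∈ N, ((g : Matrix ι ι F).map σ)ᵀ * M * (g : Matrix ι ι F) = M := by
    intro g hg
    have e := congrArg Units.val (hB ⟨g, hg⟩)
    rw [hρ, Units.val_mul, Units.val_mul] at e
    have e2 : ((((g⁻¹ : GL ι F) : Matrix ι ι F)).map σ)ᵀ * M = M * (g : Matrix ι ι F) := by
      simp only [M]
      rw [e, Matrix.mul_assoc _ _ (B : Matrix ι ι F), Units.inv_mul, mul_one]
    rw [Matrix.mul_assoc, ← e2, ← Matrix.mul_assoc, ← Matrix.transpose_mul, ← Matrix.map_mul,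
      ← Units.val_mul, inv_mul_cancel, Units.val_one]
    simp
  refine ⟨fun u v => (σ ∘ v) ⬝ᵥ (M *ᵥ u), ?_, ?_, ?_⟩
  · exact ⟨fun x y v => by simp [Matrix.mulVec_add, dotProduct_add],
      fun c x v => by simp [Matrix.mulVec_smul, dotProduct_smul],
      fun v x y => by
        rw [show σ ∘ (x + y) = σ ∘ x + σ ∘ y from funext fun i => map_add σ _ _, add_dotProduct],
      fun c v x => by
        rw [show σ ∘ (c • x) = σ c • (σ ∘ x) from funext fun i => map_mul σ _ _, smul_dotProduct, smul_eq_mul]⟩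
  · intro v hv
    have hσz : ∀ w : ι → F, σ ∘ w = 0 → w = 0 := fun w hw => funext fun i =>
      σ.injective (by rw [Pi.zero_apply, map_zero]; exact congrFun hw i)
    constructor
    · by_contra! hall
      apply hv
      refine hσz v (funext fun i => ?_)
      obtain ⟨w, hw⟩ : ∃ w, M *ᵥ w = Pi.single i 1 :=
        ⟨((B⁻¹ : GL ι F) : Matrix ι ι F) *ᵥ Pi.single i 1, by
          rw [Matrix.mulVec_mulVec, ← Units.val_mul, mul_inv_cancel, Units.val_one, Matrix.one_mulVec]⟩
      have := hall w
      simpa [hw] using this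
    · by_contra! hall
      apply hv
      have h0 : M *ᵥ v = 0 := funext fun i => by
        have := hall (σ ∘ (Pi.single i 1 : ι → F))
        rw [show σ ∘ (σ ∘ (Pi.single i 1 : ι → F)) = Pi.single i 1 from funext fun j => hinv _,
          single_dotProduct, one_mul] at this
        exact this
      have := congrArg (fun x => ((B⁻¹ : GL ι F) : Matrix ι ι F) *ᵥ x) h0
      simpa [M, Matrix.mulVec_mulVec] using this
  · rintro _ ⟨g, hg, rfl⟩ u v
    show (σ ∘ ((g : Matrix ι ι F) *ᵥ v)) ⬝ᵥ (M *ᵥ ((g : Matrix ι ι F) *ᵥ u)) = _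
    rw [show σ ∘ ((g : Matrix ι ι F) *ᵥ v) = (g : Matrix ι ι F).map σ *ᵥ (σ ∘ v) from
      funext fun i => (RingHom.map_mulVec (σ : F →+* F) _ _ i)]
    show _ = (σ ∘ v) ⬝ᵥ (M *ᵥ u)
    conv_rhs => rw [← hM g hg, ← Matrix.mulVec_mulVec, ← Matrix.mulVec_mulVec]
    rw [Matrix.dotProduct_mulVec (σ ∘ v) ((g : Matrix ι ι F).map σ)ᵀ, Matrix.vecMul_transpose]

/-- Traces in a subfield give a form of the group over it. -/
theorem realisableOver_of_trace [Finite F] {N : Subgroup (GL ι F)} (hN : ActsAbsolutelyIrreducibly (matrixSet N))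
    (F₀ : Subfield F) (ht : ∀ g ∈ N, (g : Matrix ι ι F).trace ∈ F₀) :
    RealisableOver F₀ (matrixSet N) := by
  classical
  obtain ⟨κ, b, hκ, hb⟩ := exists_basis hN
  haveI : Finite κ := Finite.of_injective _ Subtype.val_injective
  haveI := Fintype.ofFinite κ
  choose! c hcmem hc using fun x (hx : x ∈ κ) => hκ hx
  let A : Subalgebra F₀ (Matrix ι ι F) := Algebra.adjoin F₀ (matrixSet N)
  have hcl : (Submonoid.closure (matrixSet N) : Set (Matrix ι ι F)) ⊆ matrixSet N := by
    have : Submonoid.closure (matrixSet N) ≤ N.toSubmonoid.map (Units.coeHom (Matrix ι ι F)) :=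
      Submonoid.closure_le.2 fun _ h => h
    exact fun _ h => this h
  have hA : ∀ a ∈ A, a ∈ Submodule.span F₀ (matrixSet N) := fun a ha => by
    have : a ∈ Subalgebra.toSubmodule A := ha
    rw [Algebra.adjoin_eq_span] at this
    exact Submodule.span_mono hcl this
  have htA : ∀ a ∈ A, a.trace ∈ F₀ := by
    intro a ha
    have ha' := hA a ha
    clear ha
    induction ha' using Submodule.span_induction with
    | mem x hx => obtain ⟨g, hg, rfl⟩ := hx; exact ht g hg
    | zero => simp
    | add x y _ _ hx hy => rw [Matrix.trace_add]; exact add_mem hx hy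
    | smul r x _ hx =>
      rw [show r • x = (r : F) • x from rfl, Matrix.trace_smul, smul_eq_mul]
      exact mul_mem r.2 hx
  have hbA : ∀ i : κ, b i ∈ A := fun i => Algebra.subset_adjoin (by rw [hb]; exact hκ i.2)
  let G₀ : Matrix κ κ F₀ := Matrix.of fun i j => ⟨(b i * b j).trace, htA _ (mul_mem (hbA i) (hbA j))⟩
  have hG : G₀.det ≠ 0 := by
    intro h0
    obtain ⟨w, hw, hw'⟩ := Matrix.exists_vecMul_eq_zero_iff.2 h0
    have hD : ∑ i, (w i : F) • b i = 0 := eq_zero_of_trace hN fun g hg => by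
      let Φ : Matrix ι ι F →ₗ[F] F := (Matrix.traceLinearMap ι F F).comp
        (LinearMap.mulLeft F (∑ i, (w i : F) • b i))
      have : Φ = 0 := b.ext fun j => by
        have := congrArg Subtype.val (congrFun hw' j)
        simp only [Matrix.vecMul, dotProduct, G₀, Matrix.of_apply, AddSubmonoidClass.coe_finsetSum,
          MulMemClass.coe_mul, Pi.zero_apply, ZeroMemClass.coe_zero] at this
        simp only [Φ, LinearMap.comp_apply, LinearMap.mulLeft_apply, Matrix.traceLinearMap_apply,
          Finset.sum_mul, Matrix.smul_mul, Matrix.trace_sum, Matrix.trace_smul, smul_eq_mul, LinearMap.zero_apply]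
        exact this
      exact LinearMap.congr_fun this (g : Matrix ι ι F)
    refine hw (funext fun i => Subtype.ext ?_)
    exact Fintype.linearIndependent_iff.1 b.linearIndependent (fun i => (w i : F)) hD i
  have hcoef : ∀ a ∈ A, ∀ i, b.repr a i ∈ F₀ := by
    intro a ha i
    let t : κ → F₀ := fun j => ⟨(a * b j).trace, htA _ (mul_mem ha (hbA j))⟩
    obtain ⟨x, hx⟩ : ∃ x : κ → F₀, x ᵥ* G₀ = t :=
      ⟨t ᵥ* G₀⁻¹, by rw [Matrix.vecMul_vecMul, Matrix.nonsing_inv_mul _ (Ne.isUnit hG), Matrix.vecMul_one]⟩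
    have hax : a = ∑ k, (x k : F) • b k := sub_eq_zero.1 (eq_zero_of_trace hN fun g hg => by
      let Φ : Matrix ι ι F →ₗ[F] F := (Matrix.traceLinearMap ι F F).comp
        (LinearMap.mulLeft F (a - ∑ k, (x k : F) • b k))
      have : Φ = 0 := b.ext fun j => by
        have := congrArg Subtype.val (congrFun hx j)
        simp only [Matrix.vecMul, dotProduct, G₀, t, Matrix.of_apply, AddSubmonoidClass.coe_finsetSum,
          MulMemClass.coe_mul] at this
        simp only [Φ, LinearMap.comp_apply, LinearMap.mulLeft_apply, Matrix.traceLinearMap_apply, sub_mul,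
          Finset.sum_mul, Matrix.smul_mul, Matrix.trace_sub, Matrix.trace_sum, Matrix.trace_smul, smul_eq_mul,
          LinearMap.zero_apply, this, sub_self]
      exact LinearMap.congr_fun this (g : Matrix ι ι F))
    rw [hax, b.repr_sum_self]
    exact (x i).2
  have hscal : ∀ z : F, z • (1 : Matrix ι ι F) ∈ A → z ∈ F₀ := by
    intro z hz
    by_contra hzn
    have hz0 : z ≠ 0 := fun h => hzn (h ▸ F₀.zero_mem)
    have h1 : ∀ i, (b.repr (1 : Matrix ι ι F) i) = 0 := by
      intro i
      have h2 := hcoef _ hz i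
      rw [map_smul, Finsupp.smul_apply, smul_eq_mul] at h2
      by_contra hne
      refine hzn ?_
      have := mul_mem h2 (F₀.inv_mem (hcoef 1 A.one_mem i))
      rwa [mul_assoc, mul_inv_cancel₀ hne, mul_one] at this
    have : b.repr (1 : Matrix ι ι F) = 0 := Finsupp.ext h1
    rw [LinearEquiv.map_eq_zero_iff] at this
    exact one_ne_zero this
  haveI : Nontrivial A := ⟨⟨1, 0, fun h => one_ne_zero (congrArg Subtype.val h)⟩⟩
  haveI hsimple : IsSimpleRing A := IsSimpleRing.of_eq_bot_or_eq_top fun I => by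
    by_cases hI : I = ⊥
    · exact Or.inl hI
    refine Or.inr ?_
    obtain ⟨a, haI, ha0⟩ : ∃ a : A, a ∈ I ∧ a ≠ 0 := by
      by_contra! hall
      exact hI (eq_bot_iff.2 fun x hx => (TwoSidedIdeal.mem_bot A).2 (hall x hx))
    rw [eq_top_iff]
    intro x _
    -- the `F`-span of the ideal is a two-sided ideal of the matrix algebra
    let V : Submodule F (Matrix ι ι F) := Submodule.span F ((↑) '' (I : Set A))
    have hV : V = ⊤ := by
      have hl : ∀ (m : Matrix ι ι F), ∀ v ∈ V, m * v ∈ V ∧ v * m ∈ V := by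
        intro m v hv
        have hm : m ∈ Submodule.span F (matrixSet N) := Asch.span_eq_top hN ▸ Submodule.mem_top
        induction hm using Submodule.span_induction with
        | mem s hs =>
          induction hv using Submodule.span_induction with
          | mem w hw =>
            obtain ⟨y, hy, rfl⟩ := hw
            exact ⟨Submodule.subset_span ⟨⟨s, Algebra.subset_adjoin hs⟩ * y, I.mul_mem_left _ _ hy, rfl⟩,
              Submodule.subset_span ⟨y * ⟨s, Algebra.subset_adjoin hs⟩, I.mul_mem_right _ _ hy, rfl⟩⟩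
          | zero => simp
          | add u w _ _ hu hw => rw [mul_add, add_mul]; exact ⟨add_mem hu.1 hw.1, add_mem hu.2 hw.2⟩
          | smul r u _ hu =>
            rw [Matrix.mul_smul, Matrix.smul_mul]
            exact ⟨V.smul_mem r hu.1, V.smul_mem r hu.2⟩
        | zero => simp
        | add u w _ _ hu hw => rw [mul_add, add_mul]; exact ⟨add_mem hu.1 hw.1, add_mem hu.2 hw.2⟩
        | smul r u _ hu =>
          rw [Matrix.mul_smul, Matrix.smul_mul]
          exact ⟨V.smul_mem r hu.1, V.smul_mem r hu.2⟩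
      have haV : (a : Matrix ι ι F) ∈ V := Submodule.subset_span ⟨a, haI, rfl⟩
      obtain ⟨p, q, hpq⟩ : ∃ p q, (a : Matrix ι ι F) p q ≠ 0 := by
        by_contra! hall
        exact ha0 (Subtype.ext (Matrix.ext hall))
      rw [eq_top_iff]
      intro M _
      rw [Matrix.matrix_eq_sum_single M]
      refine sum_mem fun i _ => sum_mem fun j _ => ?_
      have h1 := (hl (Matrix.single i p (M i j * ((a : Matrix ι ι F) p q)⁻¹)) _ haV).1
      have h2 := (hl (Matrix.single q j (1 : F)) _ h1).2
      rwa [Matrix.single_mul_mul_single, mul_one, mul_assoc, inv_mul_cancel₀ hpq, mul_one] at h2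
    -- descend the coefficients
    obtain ⟨π, hπ⟩ : ∃ π : F →ₗ[F₀] F₀, ∀ r : F₀, π r = r := by
      obtain ⟨g, hg⟩ := LinearMap.exists_leftInverse_of_injective (Algebra.linearMap F₀ F)
        (LinearMap.ker_eq_bot.2 (algebraMap F₀ F).injective)
      exact ⟨g, fun r => LinearMap.congr_fun hg r⟩
    have hxV : (x : Matrix ι ι F) ∈ V := hV ▸ Submodule.mem_top
    obtain ⟨l, hsum⟩ := (Finsupp.mem_span_iff_linearCombination F _ _).1 hxV
    have key : x = l.sum fun y r => π r • (⟨(y : Matrix ι ι F), by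
        obtain ⟨z, -, hz⟩ := y.2; rw [← hz]; exact z.2⟩ : A) := by
      apply Subtype.ext
      apply b.repr.injective
      ext i
      have h1 : b.repr (x : Matrix ι ι F) i = l.sum fun y r => r * b.repr (y : Matrix ι ι F) i := by
        conv_lhs => rw [← hsum, Finsupp.linearCombination_apply]
        simp [Finsupp.sum, map_sum, Finset.sum_apply']
      have h2 := congrArg (fun r => (π r : F)) h1
      simp only [show ((π (b.repr (x : Matrix ι ι F) i) : F₀) : F) = b.repr (x : Matrix ι ι F) i from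
        congrArg Subtype.val (hπ ⟨_, hcoef _ x.2 i⟩)] at h2
      rw [h2]
      simp only [Finsupp.sum, map_sum, AddSubmonoidClass.coe_finsetSum, Finset.sum_apply']
      refine Finset.sum_congr rfl fun y hy => ?_
      obtain ⟨z, -, hz⟩ := y.2
      have hyc : b.repr (y : Matrix ι ι F) i ∈ F₀ := hcoef _ (hz ▸ z.2) i
      rw [show l y * b.repr (y : Matrix ι ι F) i = (⟨_, hyc⟩ : F₀) • l y from mul_comm _ _, map_smul,
        smul_eq_mul, MulMemClass.coe_mul, show ∀ (r : F₀) (w : A), ((r • w : A) : Matrix ι ι F) = (r : F) • (w : Matrix ι ι F) from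
        fun _ _ => rfl, map_smul, Finsupp.smul_apply, smul_eq_mul, mul_comm]
    rw [key, Finsupp.sum]
    refine sum_mem fun y _ => ?_
    obtain ⟨z, hz, hzy⟩ := y.2
    rw [show (⟨(y : Matrix ι ι F), _⟩ : A) = z from Subtype.ext hzy.symm, Algebra.smul_def]
    exact I.mul_mem_left _ _ hz
  haveI : Finite A := Finite.of_injective _ Subtype.val_injective
  haveI : IsArtinianRing A := inferInstance
  haveI : Module.Finite F₀ A := Module.Finite.of_finite
  obtain ⟨n, hn, D, iD, iAlg, iFin, ⟨e⟩⟩ := IsSimpleRing.exists_algEquiv_matrix_divisionRing_finite F₀ A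
  haveI : Finite D := Module.finite_of_finite F₀
  have hcomm : ∀ x y : D, x * y = y * x := fun x y => (littleWedderburn D).mul_comm x y
  have hsurj : ∀ d : D, ∃ r : F₀, algebraMap F₀ D r = d := by
    intro d
    set z : A := e.symm (Matrix.scalar (Fin n) d) with hz
    have hzc : ∀ w : A, z * w = w * z := fun w => e.injective (by
      rw [map_mul, map_mul, hz, AlgEquiv.apply_symm_apply]
      ext i j
      simp [hcomm d])
    obtain ⟨k, hk⟩ := hN.2 (z : Matrix ι ι F) fun s hs => by
      exact congrArg Subtype.val (hzc ⟨s, Algebra.subset_adjoin hs⟩)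
    have hk0 := hscal k (hk ▸ z.2)
    refine ⟨⟨k, hk0⟩, ?_⟩
    have h1 : z = algebraMap F₀ A ⟨k, hk0⟩ := Subtype.ext (by
      rw [hk]
      show k • (1 : Matrix ι ι F) = algebraMap F₀ (Matrix ι ι F) ⟨k, hk0⟩
      rw [Algebra.algebraMap_eq_smul_one]
      rfl)
    have h2 := congrArg e h1
    rw [hz, AlgEquiv.apply_symm_apply, AlgEquiv.commutes] at h2
    have h3 := congrFun (congrFun h2 0) 0
    rw [Matrix.algebraMap_matrix_apply, if_pos rfl] at h3
    simpa using h3.symm
  let eD : F₀ ≃ₐ[F₀] D := AlgEquiv.ofBijective (Algebra.ofId F₀ D) ⟨(algebraMap F₀ D).injective, hsurj⟩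
  let e₀ : A ≃ₐ[F₀] Matrix (Fin n) (Fin n) F₀ := e.trans eD.symm.mapMatrix
  let bA : Module.Basis κ F₀ A := Module.Basis.mk (v := fun i => (⟨b i, hbA i⟩ : A))
    (by
      rw [Fintype.linearIndependent_iff]
      intro w hw i
      have hw' := congrArg Subtype.val hw
      simp only [AddSubmonoidClass.coe_finsetSum, ZeroMemClass.coe_zero] at hw'
      exact Subtype.ext (Fintype.linearIndependent_iff.1 b.linearIndependent (fun i => (w i : F)) hw' i))
    (by
      intro a _
      have : a = ∑ i, (⟨b.repr (a : Matrix ι ι F) i, hcoef _ a.2 i⟩ : F₀) • (⟨b i, hbA i⟩ : A) := Subtype.ext (by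
        simp only [AddSubmonoidClass.coe_finsetSum]
        exact (b.sum_repr _).symm)
      rw [this]
      exact sum_mem fun i _ => Submodule.smul_mem _ _ (Submodule.subset_span ⟨i, rfl⟩))
  have hn2 : n * n = Fintype.card ι * Fintype.card ι := by
    have h1 := LinearEquiv.finrank_eq e₀.toLinearEquiv
    rw [Module.finrank_eq_card_basis bA, ← Module.finrank_eq_card_basis b, Module.finrank_matrix,
      Module.finrank_matrix] at h1
    simpa using h1.symm
  have hn' : n = Fintype.card ι := Nat.mul_self_inj.1 hn2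
  let ev : ι ≃ Fin n := (Fintype.equivFinOfCardEq hn'.symm)
  let φ : Matrix ι ι F₀ →+* Matrix ι ι F :=
    (A.val.comp ((e₀.trans (Matrix.reindexAlgEquiv F₀ F₀ ev.symm)).symm : Matrix ι ι F₀ →ₐ[F₀] A)).toRingHom
  obtain ⟨B, hB⟩ := exists_conj_of_ringHom (F₀.subtype) φ (fun r => by
    show (A.val.comp _) (r • (1 : Matrix ι ι F₀)) = _
    rw [map_smul, map_one]
    rfl)
  refine ⟨B⁻¹, fun s hs i j => ?_⟩
  obtain ⟨Y, hY⟩ : ∃ Y, φ Y = s :=
    ⟨(e₀.trans (Matrix.reindexAlgEquiv F₀ F₀ ev.symm)) ⟨s, Algebra.subset_adjoin hs⟩, by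
      simp [φ]⟩
  rw [inv_inv, ← hY, hB Y, ← Matrix.mul_assoc, ← Matrix.mul_assoc, ← Units.val_mul, inv_mul_cancel, Units.val_one,
    one_mul, Matrix.mul_assoc, ← Units.val_mul, inv_mul_cancel, Units.val_one, mul_one]
  exact (Y i j).2

end CfsgLib.Geo.SL3.Residual
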