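/-
Traces of powers in positive characteristic.
-/
import Mathlib.LinearAlgebra.Matrix.Charpoly.FiniteField
import Mathlib.LinearAlgebra.Matrix.Charpoly.Eigs

set_option autoImplicit false

namespace CfsgLib.Geo.SL3.Residual

open Matrix Polynomial

variable {n : Type*} [DecidableEq n] [Fintype n] {R : Type*} [Field R] (p : ℕ) [Fact p.Prime] [CharP R p]

theorem charpoly_pow_char [Nonempty n] (M : Matrix n n R) :
    (M ^ p).charpoly = M.charpoly.map (frobenius R p) := by
  apply Polynomial.expand_injective (Fact.out : p.Prime).pos
  rw [← Polynomial.map_expand, Polynomial.map_frobenius_expand]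
  unfold Matrix.charpoly
  rw [AlgHom.map_det, ← coe_detMonoidHom, ← (detMonoidHom : Matrix n n R[X] →* R[X]).map_pow]
  apply congr_arg det
  refine matPolyEquiv.injective ?_
  rw [map_pow, matPolyEquiv_charmatrix, sub_pow_char_of_commute (p := p) (C M).commute_X, ← C_pow]
  exact (id (matPolyEquiv_eq_X_pow_sub_C p M) :)

theorem trace_pow_char (M : Matrix n n R) : (M ^ p).trace = M.trace ^ p := by
  cases isEmpty_or_nonempty n
  · simp [Matrix.trace, (Fact.out : p.Prime).ne_zero]
  · rw [Matrix.trace_eq_neg_charpoly_coeff, Matrix.trace_eq_neg_charpoly_coeff, charpoly_pow_char,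
      Polynomial.coeff_map, ← frobenius_def, map_neg]

theorem trace_pow_char_pow (M : Matrix n n R) (k : ℕ) : (M ^ p ^ k).trace = M.trace ^ p ^ k := by
  induction k with
  | zero => simp
  | succ k ih => rw [pow_succ, pow_mul, trace_pow_char, ih, ← pow_mul]

/-- An element of `p`-power order has the trace of the identity. -/
theorem trace_of_pow_eq_one (M : Matrix n n R) {k : ℕ} (h : M ^ p ^ k = 1) :
    M.trace = Fintype.card n := by
  have h1 := trace_pow_char_pow p M k
  rw [h, Matrix.trace_one] at h1
  refine (iterateFrobenius_inj R p k) ?_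
  rw [iterateFrobenius_def, iterateFrobenius_def, ← h1]
  exact (map_natCast (iterateFrobenius R p k) _).symm.trans (iterateFrobenius_def ..)

end CfsgLib.Geo.SL3.Residual
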