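/-
Power classes in the small simple groups L2(q), A6, A7 and L3(2).
-/
import Cfsg.Agent.Lib.Classical.SevenTwo
import Cfsg.Agent.Lib.Classical.SmallIsoSix
import Cfsg.Agent.Lib.Classical.SL2TracePSL
import Cfsg.Agent.Lib.Recog.AffineFour

set_option autoImplicit false

namespace CfsgLib.Geo.SL3.Residual

open Equiv CfsgLib.Classical.Trace CfsgLib.Classical.Seven

/-- Every element is conjugate to its inverse. -/
def AllReal (Q : Type*) [Group Q] : Prop := ∀ x : Q, ∃ h, h * x * h⁻¹ = x⁻¹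

theorem AllReal.congr {Q R : Type*} [Group Q] [Group R] (hQ : AllReal Q) (e : Q ≃* R) : AllReal R := fun x => by
  obtain ⟨h, hh⟩ := hQ (e.symm x)
  exact ⟨e h, by simpa using congrArg e hh⟩

/-- Conjugate powers within a group, transported along an isomorphism. -/
theorem conj_pow_congr {Q R : Type*} [Group Q] [Group R] (e : Q ≃* R) {x : R} {k : ℕ}
    (h : ∃ y, y * e.symm x * y⁻¹ = e.symm x ^ k) : ∃ y, y * x * y⁻¹ = x ^ k := by
  obtain ⟨y, hy⟩ := h
  exact ⟨e y, by simpa using congrArg e hy⟩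

theorem real_alt_six : AllReal (alternatingGroup (Fin 6)) := by
  unfold AllReal
  decide +kernel

/-- The classes of the alternating group of degree seven. -/
theorem alt_seven_cases (x : alternatingGroup (Fin 7)) :
    (x ^ 7 = 1 ∧ ∃ h, h * x * h⁻¹ = x ^ 2) ∨
      ((∃ h, h * x * h⁻¹ = x⁻¹) ∧ (x ^ 4 = 1 ∨ x ^ 5 = 1 ∨ x ^ 6 = 1)) := by
  let P : Perm (Fin 7) → Prop := fun s =>
    (s ^ 7 = 1 ∧ ∃ h : Perm (Fin 7), Perm.sign h = 1 ∧ h * s * h⁻¹ = s ^ 2) ∨
      ((∃ h : Perm (Fin 7), Perm.sign h = 1 ∧ h * s * h⁻¹ = s⁻¹) ∧ (s ^ 4 = 1 ∨ s ^ 5 = 1 ∨ s ^ 6 = 1))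
  suffices hP : P x by
    rcases hP with ⟨h7, h, hs, he⟩ | ⟨⟨h, hs, he⟩, ho⟩
    · exact Or.inl ⟨Subtype.ext h7, ⟨h, hs⟩, Subtype.ext he⟩
    · refine Or.inr ⟨⟨⟨h, hs⟩, Subtype.ext he⟩, ?_⟩
      rcases ho with e | e | e
      · exact Or.inl (Subtype.ext e)
      · exact Or.inr (Or.inl (Subtype.ext e))
      · exact Or.inr (Or.inr (Subtype.ext e))
  have hconj : ∀ (g s : Perm (Fin 7)), P s → P (g * s * g⁻¹) := by
    intro g s hs
    have hsign : ∀ h : Perm (Fin 7), Perm.sign h = 1 → Perm.sign (g * h * g⁻¹) = 1 := fun h hh => by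
      simp [hh]
    rcases hs with ⟨h7, h, hh, he⟩ | ⟨⟨h, hh, he⟩, ho⟩
    · refine Or.inl ⟨by rw [conj_pow, h7]; group, _, hsign h hh, ?_⟩
      rw [conj_pow, ← he]; group
    · refine Or.inr ⟨⟨_, hsign h hh, by rw [show (g * s * g⁻¹)⁻¹ = g * s⁻¹ * g⁻¹ by group, ← he]; group⟩, ?_⟩
      rcases ho with e | e | e
      · exact Or.inl (by rw [conj_pow, e]; group)
      · exact Or.inr (Or.inl (by rw [conj_pow, e]; group))
      · exact Or.inr (Or.inr (by rw [conj_pow, e]; group))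
  have hM : (x : Perm (Fin 7)).cycleType ≤ ({2, 2, 2, 3, 3, 4, 5, 6, 7} : Multiset ℕ) := by
    rw [Multiset.le_iff_count]
    intro i
    by_cases hi : i ∈ (x : Perm (Fin 7)).cycleType
    · have h2 := Perm.two_le_of_mem_cycleType hi
      have hsum : (x : Perm (Fin 7)).cycleType.sum ≤ 7 := by
        rw [Perm.sum_cycleType]; exact (Finset.card_le_univ _).trans_eq (Fintype.card_fin 7)
      have hle : (x : Perm (Fin 7)).cycleType.count i * i ≤ (x : Perm (Fin 7)).cycleType.sum := by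
        obtain ⟨u, hu⟩ := Multiset.le_iff_exists_add.1
          (Multiset.le_count_iff_replicate_le.1 (le_refl ((x : Perm (Fin 7)).cycleType.count i)))
        conv_rhs => rw [hu]
        simp
      have h7 : i ≤ 7 := (Perm.le_card_support_of_mem_cycleType hi).trans
        ((Finset.card_le_univ _).trans_eq (Fintype.card_fin 7))
      interval_cases i <;> simp <;> omega
    · rw [Multiset.count_eq_zero_of_notMem hi]; exact Nat.zero_le _
  have hfin : ∀ m ∈ ({2, 2, 2, 3, 3, 4, 5, 6, 7} : Multiset ℕ).powerset, m.sum ≤ 7 →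
      (m.sum + Multiset.card m) % 2 = 0 →
      m ∈ [(0 : Multiset ℕ), {2, 2}, {3}, {3, 3}, {4, 2}, {5}, {3, 2, 2}, {7}] := by decide +kernel
  have heven : ((x : Perm (Fin 7)).cycleType.sum + Multiset.card (x : Perm (Fin 7)).cycleType) % 2 = 0 := by
    have h := Perm.sign_of_cycleType (x : Perm (Fin 7))
    rw [Perm.mem_alternatingGroup.1 x.2, eq_comm, neg_one_pow_eq_one_iff_even (by decide)] at h
    exact Nat.even_iff.1 h
  have hrep : ∀ r : Perm (Fin 7), (x : Perm (Fin 7)).cycleType = r.cycleType → P r → P x := fun r h hr => by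
    obtain ⟨g, hg⟩ := isConj_iff.1 (Perm.isConj_iff_cycleType_eq.2 h.symm)
    rw [← hg]
    exact hconj g r hr
  have hmem := hfin _ (Multiset.mem_powerset.2 hM)
    (by rw [Perm.sum_cycleType]; exact (Finset.card_le_univ _).trans_eq (Fintype.card_fin 7)) heven
  simp only [List.mem_cons, List.not_mem_nil, or_false] at hmem
  rcases hmem with h | h | h | h | h | h | h | h
  · exact hrep 1 (by rw [h, Perm.cycleType_one]) (Or.inr ⟨⟨1, by decide, by simp⟩, Or.inl (by simp)⟩)
  · exact hrep (swap 0 1 * swap 2 3) (by rw [h]; decide +kernel)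
      (Or.inr ⟨⟨1, by decide +kernel, by decide +kernel⟩, Or.inl (by decide +kernel)⟩)
  · exact hrep (swap 0 1 * swap 1 2) (by rw [h]; decide +kernel)
      (Or.inr ⟨⟨swap 1 2 * swap 3 4, by decide +kernel, by decide +kernel⟩, Or.inr (Or.inr (by decide +kernel))⟩)
  · exact hrep (swap 0 1 * swap 1 2 * (swap 3 4 * swap 4 5)) (by rw [h]; decide +kernel)
      (Or.inr ⟨⟨swap 1 2 * swap 4 5, by decide +kernel, by decide +kernel⟩, Or.inr (Or.inr (by decide +kernel))⟩)
  · exact hrep (swap 0 1 * swap 1 2 * swap 2 3 * swap 4 5) (by rw [h]; decide +kernel)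
      (Or.inr ⟨⟨swap 1 3 * swap 4 5, by decide +kernel, by decide +kernel⟩, Or.inl (by decide +kernel)⟩)
  · exact hrep (swap 0 1 * swap 1 2 * swap 2 3 * swap 3 4) (by rw [h]; decide +kernel)
      (Or.inr ⟨⟨swap 1 4 * swap 2 3, by decide +kernel, by decide +kernel⟩, Or.inr (Or.inl (by decide +kernel))⟩)
  · exact hrep (swap 0 1 * swap 1 2 * (swap 3 4 * swap 5 6)) (by rw [h]; decide +kernel)
      (Or.inr ⟨⟨swap 1 2 * swap 3 4, by decide +kernel, by decide +kernel⟩, Or.inr (Or.inr (by decide +kernel))⟩)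
  · refine hrep (swap 0 1 * swap 1 2 * swap 2 3 * swap 3 4 * swap 4 5 * swap 5 6) (by rw [h]; decide +kernel) ?_
    refine Or.inl ⟨by decide +kernel, ⟨?_, ?_, ?_⟩⟩
    · exact swap 1 2 * swap 2 4 * (swap 3 6 * swap 6 5)
    · decide +kernel
    · decide +kernel

/-- The classes of L3(2) = L2(7). -/
theorem three_two_table : ∀ i : Fin 168,
    let m := CfsgLib.Classical.Seven.mat3 i
    (m ^ 7 = 1 ∧ ∃ j, CfsgLib.Classical.Seven.mat3 j * m = m ^ 2 * CfsgLib.Classical.Seven.mat3 j) ∨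
      ((∃ j, m * CfsgLib.Classical.Seven.mat3 j * m = CfsgLib.Classical.Seven.mat3 j) ∧ (m ^ 3 = 1 ∨ m ^ 4 = 1)) := by
  decide +kernel

theorem real_alt_five : AllReal (alternatingGroup (Fin 5)) := by
  unfold AllReal
  decide +kernel

open scoped MatrixGroups in
/-- In PSL(2) of odd characteristic an element is real or of order the characteristic. -/
theorem psl_two_cases {K : Type*} [Field K] [Fintype K] (p : ℕ) [Fact p.Prime] [CharP K p] (hp : p ≠ 2)
    (x : Matrix.ProjectiveSpecialLinearGroup (Fin 2) K) : x ^ p = 1 ∨ ∃ h, h * x * h⁻¹ = x⁻¹ := by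
  obtain ⟨g, rfl⟩ := QuotientGroup.mk_surjective x
  have h2 : (2 : K) ≠ 0 := by
    intro h
    have h' : ((2 : ℕ) : K) = 0 := by exact_mod_cast h
    rw [CharP.cast_eq_zero_iff K p] at h'
    exact hp ((Nat.prime_dvd_prime_iff_eq Fact.out Nat.prime_two).1 h')
  by_cases ht : trc g ^ 2 = 4
  · refine Or.inl (mk_pow_char_eq_one p (e := trc g / 2) ?_ (by field_simp))
    field_simp
    linear_combination ht
  · have hodd : Fintype.card K % 2 = 1 := FiniteField.odd_card_of_char_ne_two (by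
      rw [ringChar.eq K p]; exact hp)
    have htr : trc g⁻¹ = trc g := by
      simp [trc, Matrix.SpecialLinearGroup.coe_inv, Matrix.adjugate_fin_two, add_comm]
    obtain ⟨h, hh⟩ := exists_conj (x := g) (y := g⁻¹) (not_isScalar_of_trc ht)
      (not_isScalar_of_trc (by rw [htr]; exact ht)) htr (normSurj_of_odd hodd h2 ht)
    exact Or.inr ⟨QuotientGroup.mk h, by rw [← QuotientGroup.mk_inv, ← QuotientGroup.mk_mul, ← QuotientGroup.mk_inv,
      ← QuotientGroup.mk_mul, hh]⟩

/-- The classes of any group isomorphic to L3(2). -/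
theorem three_two_cases {Q : Type*} [Group Q]
    (e : Q ≃* Matrix.SpecialLinearGroup (Fin 3) (ZMod 2)) (x : Q) :
    (x ^ 7 = 1 ∧ ∃ h, h * x * h⁻¹ = x ^ 2) ∨
      ((∃ h, h * x * h⁻¹ = x⁻¹) ∧ (x ^ 3 = 1 ∨ x ^ 4 = 1)) := by
  classical
  have hsurj : Function.Surjective el3 := by
    have h3 := CfsgLib.Classical.card_SL (F := ZMod 2) 3 (by norm_num)
    rw [ZMod.card, Fin.prod_univ_three] at h3
    norm_num at h3
    refine (((Fintype.bijective_iff_injective_and_card el3).2
      ⟨fun i j h => mat3_injective (congrArg Subtype.val h), ?_⟩)).2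
    rw [Fintype.card_fin]
    first | exact h3.symm | (rw [← Nat.card_eq_fintype_card]; omega)
  obtain ⟨i, hi⟩ := hsurj (e x)
  have hm : mat3 i = (e x).1 := congrArg Subtype.val hi
  have hpow : ∀ n : ℕ, mat3 i ^ n = 1 → x ^ n = 1 := fun n hn => e.injective (by
    rw [map_pow, map_one]; exact Subtype.ext (by rw [Matrix.SpecialLinearGroup.coe_pow, ← hm]; exact hn))
  have t := three_two_table i
  rcases t with ⟨h7, j, hj⟩ | ⟨⟨j, hj⟩, ho⟩
  · refine Or.inl ⟨hpow 7 h7, e.symm (el3 j), ?_⟩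
    apply e.injective
    rw [map_mul, map_mul, map_inv, map_pow, MulEquiv.apply_symm_apply, mul_inv_eq_iff_eq_mul]
    apply Subtype.ext
    rw [Matrix.SpecialLinearGroup.coe_mul, Matrix.SpecialLinearGroup.coe_mul, Matrix.SpecialLinearGroup.coe_pow, ← hm]
    exact hj
  · refine Or.inr ⟨⟨e.symm (el3 j), ?_⟩, ?_⟩
    · apply e.injective
      rw [map_mul, map_mul, map_inv, map_inv, MulEquiv.apply_symm_apply, mul_inv_eq_iff_eq_mul,
        eq_inv_mul_iff_mul_eq, ← mul_assoc]
      apply Subtype.ext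
      rw [Matrix.SpecialLinearGroup.coe_mul, Matrix.SpecialLinearGroup.coe_mul, ← hm]
      exact hj
    · exact ho.imp (hpow 3) (hpow 4)

end CfsgLib.Geo.SL3.Residual
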