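/-
Traces of the cores with quotient A5, A6, A7, L3(2) or L2(q), and their consequences.
-/
import Cfsg.Agent.Lib.Geo.SL3.Residual.Central
import Cfsg.Agent.Lib.Geo.SL3.Residual.Equiv
import Cfsg.Agent.Lib.Geo.SL3.Residual.TracePow
import Cfsg.Agent.Lib.Geo.SL3.Residual.Types

set_option autoImplicit false

namespace CfsgLib.Geo.SL3.Residual

open Cfsg.Geo

variable {F : Type*} [Field F] {L : Subgroup (GL (Fin 3) F)}

/-- The trace of an element of the group. -/
def trC (g : L) : F := ((g : GL (Fin 3) F) : Matrix (Fin 3) (Fin 3) F).trace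

abbrev Zsub (L : Subgroup (GL (Fin 3) F)) : Subgroup L := (scalars (Fin 3) F).subgroupOf L

theorem scalars_trivial_three [CharP F 3] (hL : L ≤ specialLinear (Fin 3) F) : Zsub L = ⊥ := by
  rw [Subgroup.eq_bot_iff_forall]
  intro z hz
  obtain ⟨c, hc⟩ := (mem_scalars_iff _).1 (Subgroup.mem_subgroupOf.1 hz)
  have h3 := congrArg (fun x : L => ((x : GL (Fin 3) F) : Matrix (Fin 3) (Fin 3) F) 0 0) (scalar_pow_three hL hz)
  simp only [SubmonoidClass.coe_pow, Units.val_pow_eq_pow_val, hc, smul_pow, one_pow, OneMemClass.coe_one,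
    Units.val_one, Matrix.smul_apply, Matrix.one_apply_eq, smul_eq_mul, mul_one] at h3
  have h0 : (c : F) = 1 := by
    haveI : Fact (Nat.Prime 3) := ⟨Nat.prime_three⟩
    exact frobenius_inj F 3 (by rw [frobenius_def, frobenius_def, one_pow]; exact h3)
  refine Subtype.ext (Units.ext ?_)
  rw [hc, h0, one_smul]
  rfl

/-- Elements of `p`-power order modulo scalars. -/
theorem trC_unipotent (p : ℕ) [Fact p.Prime] [CharP F p] (hL : L ≤ specialLinear (Fin 3) F) {g : L} {k : ℕ}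
    (hg : g ^ p ^ k ∈ Zsub L) {a b : ℤ} (hab : (3 : ℤ) ∣ a - b ∨ Zsub L = ⊥) : trC (g ^ a) = trC (g ^ b) := by
  have htr : ∀ y : L, y ^ p ^ k = 1 → trC y = 3 := fun y hy => by
    have := trace_of_pow_eq_one p ((y : GL (Fin 3) F) : Matrix (Fin 3) (Fin 3) F) (k := k) (by
      rw [← Units.val_pow_eq_pow_val, ← SubmonoidClass.coe_pow, hy, OneMemClass.coe_one, Units.val_one])
    simpa [trC] using this
  by_cases h3 : p = 3 ∨ Zsub L = ⊥
  · have hZ : Zsub L = ⊥ := h3.elim (fun h => by subst h; exact scalars_trivial_three hL) id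
    have h1 : g ^ p ^ k = 1 := (Subgroup.eq_bot_iff_forall _).1 hZ _ hg
    have h2 : ∀ z : ℤ, (g ^ z) ^ p ^ k = 1 := fun z => by
      rw [← zpow_natCast, ← zpow_mul, mul_comm, zpow_mul, zpow_natCast, h1, one_zpow]
    rw [htr _ (h2 a), htr _ (h2 b)]
  · push Not at h3
    have hab' : (3 : ℤ) ∣ a - b := hab.resolve_right h3.2
    have hco : Nat.Coprime 3 (p ^ k) :=
      Nat.Coprime.pow_right _ ((Nat.coprime_primes Nat.prime_three Fact.out).2 (Ne.symm h3.1))
    obtain ⟨u, v, huv⟩ : ∃ u v : ℤ, 3 * u + ((p ^ k : ℕ) : ℤ) * v = 1 :=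
      ⟨Nat.gcdA 3 (p ^ k), Nat.gcdB 3 (p ^ k), by
        have := Nat.gcd_eq_gcd_ab 3 (p ^ k)
        rw [hco.gcd_eq_one] at this
        push_cast at this ⊢
        linarith⟩
    have hg3 : (g ^ p ^ k) ^ (3 : ℤ) = 1 := by exact_mod_cast scalar_pow_three hL hg
    obtain ⟨w, hw⟩ := hab'
    have he : g ^ a = ((g ^ p ^ k) ^ (v * (3 * w))) * (g ^ (3 * u * (a - b))) * g ^ b := by
      rw [← zpow_natCast g (p ^ k), ← zpow_mul, ← zpow_add, ← zpow_add]
      congr 1
      calc a = (3 * u + ((p ^ k : ℕ) : ℤ) * v) * (3 * w) + b := by rw [huv]; omega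
        _ = _ := by rw [hw]; ring
    -- write both powers as a scalar times an element of `p`-power order
    have hsplit : ∀ z : ℤ, g ^ z = (g ^ p ^ k) ^ (v * z) * g ^ (3 * u * z) := fun z => by
      rw [← zpow_natCast g (p ^ k), ← zpow_mul, ← zpow_add]
      congr 1
      linear_combination -z * huv
    have hy : ∀ z : ℤ, (g ^ (3 * u * z)) ^ p ^ k = 1 := fun z => by
      rw [← zpow_natCast, ← zpow_mul, show 3 * u * z * ((p ^ k : ℕ) : ℤ) = ((p ^ k : ℕ) : ℤ) * (3 * (u * z)) by ring,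
        zpow_mul, zpow_natCast, zpow_mul, hg3, one_zpow]
    have hsc : (g ^ p ^ k) ^ (v * a) = (g ^ p ^ k) ^ (v * b) := by
      rw [show v * a = 3 * (v * w) + v * b by rw [show a = 3 * w + b by omega]; ring, zpow_add, zpow_mul, hg3,
        one_zpow, one_mul]
    obtain ⟨c, hc⟩ := (mem_scalars_iff _).1 (Subgroup.mem_subgroupOf.1 (zpow_mem hg (v * b)))
    have hval : ∀ y : L, trC ((g ^ p ^ k) ^ (v * b) * y) = (c : F) * trC y := fun y => by
      simp only [trC, Subgroup.coe_mul, Units.val_mul, hc, Matrix.smul_mul, one_mul, Matrix.trace_smul, smul_eq_mul]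
    rw [hsplit a, hsplit b, hsc, hval, hval, htr _ (hy a), htr _ (hy b)]

/-- A conjugate modulo scalars. -/
theorem exists_conj_of_quot {x : L} {a b : ℤ}
    (h : ∃ y : L ⧸ Zsub L, y * (QuotientGroup.mk x : L ⧸ Zsub L) ^ a * y⁻¹ = (QuotientGroup.mk x : L ⧸ Zsub L) ^ b) :
    ∃ h : L, (h * x ^ a * h⁻¹)⁻¹ * x ^ b ∈ Zsub L := by
  obtain ⟨y, hy⟩ := h
  obtain ⟨h, rfl⟩ := QuotientGroup.mk_surjective y
  refine ⟨h, QuotientGroup.eq.1 ?_⟩
  rw [QuotientGroup.mk_mul, QuotientGroup.mk_mul, QuotientGroup.mk_inv, QuotientGroup.mk_zpow,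
    QuotientGroup.mk_zpow]
  exact hy

/-- Real elements modulo scalars: powers prime to the order. -/
theorem trC_real (hL : L ≤ specialLinear (Fin 3) F) {g : L} {n : ℕ}
    (hn : (QuotientGroup.mk g : L ⧸ Zsub L) ^ n = 1)
    (hr : ∃ y : L ⧸ Zsub L, y * QuotientGroup.mk g * y⁻¹ = (QuotientGroup.mk g : L ⧸ Zsub L)⁻¹)
    {e b : ℤ} (hb : b = 1 ∨ b = -1) (he : (n : ℤ) ∣ e - 1 ∨ (n : ℤ) ∣ e + 1)
    (hab : (3 : ℤ) ∣ e - b ∨ Zsub L = ⊥) : trC (g ^ e) = trC (g ^ b) := by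
  set x : L ⧸ Zsub L := QuotientGroup.mk g with hx
  have hgn : g ^ n ∈ Zsub L := by
    rw [← QuotientGroup.eq_one_iff, QuotientGroup.mk_pow]; exact hn
  have hxz : ∀ z w : ℤ, (n : ℤ) ∣ z - w → x ^ z = x ^ w := fun z w ⟨c, hc⟩ => by
    rw [show z = (n : ℤ) * c + w by omega, zpow_add, zpow_mul, zpow_natCast, hn, one_zpow, one_mul]
  obtain ⟨y, hy⟩ := hr
  have hcj : ∀ z w : ℤ, (z = 1 ∨ z = -1) → (w = 1 ∨ w = -1) → ∃ y, y * x ^ z * y⁻¹ = x ^ w := by
    have h2 : y * x⁻¹ * y⁻¹ = x := by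
      have := congrArg (·⁻¹) hy
      simpa [_root_.mul_inv_rev, mul_assoc] using this
    rintro z w (rfl | rfl) (rfl | rfl)
    · exact ⟨1, by simp⟩
    · exact ⟨y, by simpa using hy⟩
    · exact ⟨y, by simpa using h2⟩
    · exact ⟨1, by simp⟩
  by_cases h3 : 3 ∣ n
  · obtain ⟨h, hh⟩ := exists_conj_of_quot (x := g) (a := 1) (b := -1) ⟨y, by simpa using hy⟩
    simp only [zpow_one, zpow_neg] at hh
    have hg1 := pow_eq_one_of_real hL hgn h3 hh
    have hgz : ∀ z w : ℤ, (n : ℤ) ∣ z - w → g ^ z = g ^ w := fun z w ⟨c, hc⟩ => by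
      rw [show z = (n : ℤ) * c + w by omega, zpow_add, zpow_mul, zpow_natCast, hg1, one_zpow, one_mul]
    rcases hab with hab | hab
    · have h3' : (3 : ℤ) ∣ n := by exact_mod_cast h3
      rcases he with he | he
      · have := h3'.trans he
        rcases hb with rfl | rfl
        · rw [hgz e 1 he]
        · omega
      · have := h3'.trans he
        rcases hb with rfl | rfl
        · omega
        · rw [hgz e (-1) (by rwa [sub_neg_eq_add])]
    · have hr' : h * g * h⁻¹ = g⁻¹ := by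
        have := (Subgroup.eq_bot_iff_forall _).1 hab _ hh
        rwa [inv_mul_eq_one] at this
      have hc : trC (g⁻¹ : L) = trC g := by
        rw [← hr']
        simp only [trC, Subgroup.coe_mul, Units.val_mul]
        rw [Matrix.trace_mul_cycle, Subgroup.coe_inv, Units.inv_mul, one_mul]
      rcases he with he | he
      · rw [hgz e 1 he]
        rcases hb with rfl | rfl <;> simp [hc]
      · rw [hgz e (-1) (by rwa [sub_neg_eq_add])]
        rcases hb with rfl | rfl <;> simp [hc]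
  · have hx' : ∃ w : ℤ, (w = 1 ∨ w = -1) ∧ x ^ e = x ^ w := by
      rcases he with he | he
      · exact ⟨1, Or.inl rfl, hxz e 1 he⟩
      · exact ⟨-1, Or.inr rfl, hxz e (-1) (by rwa [sub_neg_eq_add])⟩
    obtain ⟨w, hw, hxe⟩ := hx'
    obtain ⟨y', hy'⟩ := hcj w b hw hb
    obtain ⟨h, hh⟩ := exists_conj_of_quot (x := g) (a := e) (b := b) ⟨y', by rw [← hx, hxe]; exact hy'⟩
    exact trace_zpow_eq hL hgn h3 hab hh

/-- Elements of order seven modulo scalars, conjugate to their squares. -/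
theorem trC_seven (hL : L ≤ specialLinear (Fin 3) F) {g : L}
    (hn : (QuotientGroup.mk g : L ⧸ Zsub L) ^ 7 = 1)
    (hr : ∃ y : L ⧸ Zsub L, y * QuotientGroup.mk g * y⁻¹ = (QuotientGroup.mk g : L ⧸ Zsub L) ^ 2)
    {e b : ℤ} (heb : (7 : ℤ) ∣ e - b ∨ (7 : ℤ) ∣ 2 * e - b ∨ (7 : ℤ) ∣ 4 * e - b)
    (hab : (3 : ℤ) ∣ e - b ∨ Zsub L = ⊥) : trC (g ^ e) = trC (g ^ b) := by
  set x : L ⧸ Zsub L := QuotientGroup.mk g with hx
  have hgn : g ^ 7 ∈ Zsub L := by
    rw [← QuotientGroup.eq_one_iff, QuotientGroup.mk_pow]; exact hn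
  have hxz : ∀ z w : ℤ, (7 : ℤ) ∣ z - w → x ^ z = x ^ w := fun z w ⟨c, hc⟩ => by
    rw [show z = (7 : ℤ) * c + w by omega, zpow_add, zpow_mul,
      show x ^ (7 : ℤ) = 1 from by exact_mod_cast hn, one_zpow, one_mul]
  obtain ⟨y, hy⟩ := hr
  have h2 : ∀ z : ℤ, y * x ^ z * y⁻¹ = x ^ (2 * z) := fun z => by
    rw [← conj_zpow, hy, ← zpow_natCast, ← zpow_mul]; norm_num
  have hex : ∃ y', y' * x ^ e * y'⁻¹ = x ^ b := by
    rcases heb with h | h | h
    · exact ⟨1, by simpa using hxz e b h⟩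
    · exact ⟨y, by rw [h2, hxz _ b h]⟩
    · refine ⟨y * y, ?_⟩
      rw [show y * y * x ^ e * (y * y)⁻¹ = y * (y * x ^ e * y⁻¹) * y⁻¹ by group, h2, h2, ← mul_assoc]
      exact hxz _ b (by norm_num; exact h)
  obtain ⟨h, hh⟩ := exists_conj_of_quot (x := g) (a := e) (b := b) (by rwa [← hx])
  exact trace_zpow_eq hL hgn (by norm_num) hab hh

end CfsgLib.Geo.SL3.Residual
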