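/-
Consequences of the trace identities: subfields and invariant forms.
-/
import Cfsg.Agent.Lib.Geo.SL3.Residual.Fields

set_option autoImplicit false

namespace CfsgLib.Geo.SL3.Residual

open Cfsg.Geo

variable {F : Type*} [Field F] {L : Subgroup (GL (Fin 3) F)}

/-- The traces of `e`-th and `b`-th powers agree. -/
def TraceMap (L : Subgroup (GL (Fin 3) F)) (e b : ℤ) : Prop := ∀ g : L, trC (g ^ e) = trC (g ^ b)

theorem trC_pow_char (p : ℕ) [Fact p.Prime] [CharP F p] (g : L) (j : ℕ) :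
    trC (g ^ ((p ^ j : ℕ) : ℤ)) = trC g ^ p ^ j := by
  rw [zpow_natCast]
  simp only [trC, SubmonoidClass.coe_pow, Units.val_pow_eq_pow_val]
  exact trace_pow_char_pow p _ j

theorem mk_pow_of {g : L} {n : ℕ} (p : ℕ) {k : ℕ} (hn : n = p ^ k)
    (h : (QuotientGroup.mk g : L ⧸ Zsub L) ^ n = 1) : g ^ p ^ k ∈ Zsub L := by
  rwa [← QuotientGroup.mk_pow, QuotientGroup.eq_one_iff, hn] at h

section Types

variable (p : ℕ) [Fact p.Prime] [CharP F p] (hL : L ≤ specialLinear (Fin 3) F)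
include hL

theorem traceMap_real (hZ : Zsub L = ⊥)
    (h : ∀ x : L ⧸ Zsub L, x ^ p = 1 ∨ ∃ y, y * x * y⁻¹ = x⁻¹) : TraceMap L 1 (-1) := by
  intro g
  rcases h (QuotientGroup.mk g) with h1 | h1
  · exact trC_unipotent p hL (k := 1) (mk_pow_of p (pow_one p).symm h1) (Or.inr hZ)
  · obtain ⟨h', hh⟩ := exists_conj_of_quot (x := g) (a := 1) (b := -1) (by simpa using h1)
    have e := (Subgroup.eq_bot_iff_forall _).1 hZ _ hh
    rw [inv_mul_eq_one] at e
    rw [← e]
    simp only [trC, Subgroup.coe_mul, Units.val_mul]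
    rw [Matrix.trace_mul_cycle, Subgroup.coe_inv, Units.inv_mul, one_mul]

variable {e b : ℤ} (hb : b = 1 ∨ b = -1) (h2 : p = 2 ∨ (2 : ℤ) ∣ e - 1)
  (h3 : p = 3 ∨ ¬ (3 : ℤ) ∣ e)
include hb h2 h3

omit [Fact p.Prime] [CharP F p] hL hb h2 in
theorem dvd_three (hp : p ≠ 3) : (3 : ℤ) ∣ e - 1 ∨ (3 : ℤ) ∣ e + 1 := by
  have := h3.resolve_left hp
  omega

theorem traceMap_real_orders (hab : (3 : ℤ) ∣ e - b ∨ Zsub L = ⊥) (h5 : p = 5 ∨ (5 : ℤ) ∣ e - 1 ∨ (5 : ℤ) ∣ e + 1)
    {g : L} (hr : ∃ y : L ⧸ Zsub L, y * QuotientGroup.mk g * y⁻¹ = (QuotientGroup.mk g : L ⧸ Zsub L)⁻¹)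
    (hn : (QuotientGroup.mk g : L ⧸ Zsub L) ^ 3 = 1 ∨ (QuotientGroup.mk g : L ⧸ Zsub L) ^ 4 = 1 ∨
      (QuotientGroup.mk g : L ⧸ Zsub L) ^ 5 = 1) : trC (g ^ e) = trC (g ^ b) := by
  rcases hn with hn | hn | hn
  · by_cases hp : p = 3
    · exact trC_unipotent p hL (k := 1) (mk_pow_of p (by rw [hp]; rfl) hn) hab
    · exact trC_real hL hn hr hb (by exact_mod_cast dvd_three p h3 hp) hab
  · rcases h2 with hp | h2
    · exact trC_unipotent p hL (k := 2) (mk_pow_of p (by rw [hp]; rfl) hn) hab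
    · refine trC_real hL hn hr hb ?_ hab
      push_cast
      omega
  · rcases h5 with hp | h5
    · exact trC_unipotent p hL (k := 1) (mk_pow_of p (by rw [hp]; rfl) hn) hab
    · exact trC_real hL hn hr hb (by exact_mod_cast h5) hab

theorem traceMap_six (eQ : (L ⧸ Zsub L) ≃* alternatingGroup (Fin 6)) (hab : (3 : ℤ) ∣ e - b ∨ Zsub L = ⊥)
    (h5 : p = 5 ∨ (5 : ℤ) ∣ e - 1 ∨ (5 : ℤ) ∣ e + 1) : TraceMap L e b := fun g =>
  traceMap_real_orders p hL hb h2 h3 hab h5 (real_alt_six.congr eQ.symm _) (by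
    rcases Recog.AffineTwo.alt_six_orders (eQ (QuotientGroup.mk g)) with h | h | h
    · exact Or.inl (eQ.injective (by simpa using h))
    · exact Or.inr (Or.inl (eQ.injective (by simpa using h)))
    · exact Or.inr (Or.inr (eQ.injective (by simpa using h))))

omit h3 in
theorem traceMap_seven (eQ : (L ⧸ Zsub L) ≃* alternatingGroup (Fin 7)) (hp : p = 5)
    (hab : (3 : ℤ) ∣ e - b) (h7 : (7 : ℤ) ∣ e - b ∨ (7 : ℤ) ∣ 2 * e - b ∨ (7 : ℤ) ∣ 4 * e - b) :
    TraceMap L e b := by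
  intro g
  have hmap : ∀ (k : ℕ), (eQ (QuotientGroup.mk g)) ^ k = 1 → (QuotientGroup.mk g : L ⧸ Zsub L) ^ k = 1 :=
    fun k hk => eQ.injective (by rw [map_pow, map_one]; exact hk)
  rcases alt_seven_cases (eQ (QuotientGroup.mk g)) with ⟨hn, y, hy⟩ | ⟨⟨y, hy⟩, hn⟩
  · exact trC_seven hL (hmap 7 hn) ⟨eQ.symm y, eQ.injective (by simpa using hy)⟩ h7 (Or.inl hab)
  · have hr : ∃ z : L ⧸ Zsub L, z * QuotientGroup.mk g * z⁻¹ = (QuotientGroup.mk g : L ⧸ Zsub L)⁻¹ :=
      ⟨eQ.symm y, eQ.injective (by simpa using hy)⟩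
    rcases hn with hn | hn | hn
    · refine trC_real hL (hmap 4 hn) hr hb ?_ (Or.inl hab)
      push_cast
      omega
    · exact trC_unipotent p hL (k := 1) (mk_pow_of p (by rw [hp]; rfl) (hmap 5 hn)) (Or.inl hab)
    · refine trC_real hL (hmap 6 hn) hr hb ?_ (Or.inl hab)
      push_cast
      omega

theorem traceMap_three_two (eQ : (L ⧸ Zsub L) ≃* Matrix.SpecialLinearGroup (Fin 3) (ZMod 2)) (hZ : Zsub L = ⊥)
    (h7 : p = 7 ∨ (7 : ℤ) ∣ e - b ∨ (7 : ℤ) ∣ 2 * e - b ∨ (7 : ℤ) ∣ 4 * e - b) : TraceMap L e b := by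
  intro g
  rcases three_two_cases eQ (QuotientGroup.mk g : L ⧸ Zsub L) with ⟨hn, hy⟩ | ⟨hr, hn⟩
  · rcases h7 with hp | h7
    · exact trC_unipotent p hL (k := 1) (mk_pow_of p (by rw [hp]; rfl) hn) (Or.inr hZ)
    · exact trC_seven hL hn hy h7 (Or.inr hZ)
  · rcases hn with hn | hn
    · by_cases hp : p = 3
      · exact trC_unipotent p hL (k := 1) (mk_pow_of p (by rw [hp]; rfl) hn) (Or.inr hZ)
      · exact trC_real hL hn hr hb (by exact_mod_cast dvd_three p h3 hp) (Or.inr hZ)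
    · rcases h2 with hp | h2
      · exact trC_unipotent p hL (k := 2) (mk_pow_of p (by rw [hp]; rfl) hn) (Or.inr hZ)
      · refine trC_real hL hn hr hb ?_ (Or.inr hZ)
        push_cast
        omega

end Types

/-- No proper subfield bounds the field. -/
theorem card_le_of_traceMap [Fintype F] (p : ℕ) [Fact p.Prime] [CharP F p]
    (hirr : ActsAbsolutelyIrreducibly (matrixSet L))
    (hno : ∀ F₀ : Subfield F, F₀ ≠ ⊤ → ¬ RealisableOver F₀ (matrixSet L)) {j : ℕ} (hj : j ≠ 0)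
    (h : TraceMap L ((p ^ j : ℕ) : ℤ) 1) : Fintype.card F ≤ p ^ j := by
  classical
  set F₀ : Subfield F := (iterateFrobenius F p j).eqLocusField (RingHom.id F) with hF₀
  have hmem : ∀ x, x ∈ F₀ ↔ x ^ p ^ j = x := fun x => Iff.rfl
  have htop : F₀ = ⊤ := by
    by_contra hne
    refine hno F₀ hne (realisableOver_of_trace hirr F₀ fun g hg => (hmem _).2 ?_)
    have := h ⟨g, hg⟩
    rw [trC_pow_char, zpow_one] at this
    exact this
  have h1 : 1 < p ^ j := Nat.one_lt_pow hj (Fact.out : p.Prime).one_lt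
  have hne : (Polynomial.X ^ p ^ j - Polynomial.X : Polynomial F) ≠ 0 := FiniteField.X_pow_card_sub_X_ne_zero F h1
  calc Fintype.card F = (Finset.univ : Finset F).card := rfl
    _ ≤ (Polynomial.X ^ p ^ j - Polynomial.X : Polynomial F).roots.toFinset.card := by
      refine Finset.card_le_card fun x _ => ?_
      rw [Multiset.mem_toFinset, Polynomial.mem_roots hne]
      simp [(hmem x).1 (htop ▸ Subfield.mem_top x)]
    _ ≤ _ := (Multiset.toFinset_card_le _).trans ((Polynomial.card_roots' _).trans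
      (le_of_eq (FiniteField.X_pow_card_sub_X_natDegree_eq F h1)))

/-- Real traces give a quadratic form. -/
theorem exists_quad [Fintype F] (hirr : ActsAbsolutelyIrreducibly (matrixSet L)) (h2 : (2 : F) ≠ 0)
    (h : TraceMap L 1 (-1)) :
    ∃ Q : (Fin 3 → F) → F, IsNondegenerateQuadraticForm Q ∧ FixesQuadForm (matrixSet L) Q := by
  obtain ⟨f, hf, hnd, hfix⟩ := exists_form_of_trace (σ := RingEquiv.refl F) hirr (fun g hg => by
    have := h ⟨g, hg⟩
    rw [zpow_one, zpow_neg_one] at this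
    exact this) fun a => rfl
  have hb : IsBilinearForm f := ⟨hf.add_left, hf.smul_left, hf.add_right, hf.smul_right⟩
  obtain ⟨c, hc⟩ := Asch.exists_smul_of_fixed hirr hf (g := fun u v => f v u)
    ⟨fun x y v => hb.add_right v x y, fun c x v => hb.smul_right c v x, fun v x y => hb.add_left x y v,
      fun c v x => hb.smul_left c x v⟩ hnd hfix fun s hs u v => hfix s hs v u
  obtain ⟨v₀, hv₀⟩ := exists_ne (0 : Fin 3 → F)
  obtain ⟨x₀, hx₀⟩ := (hnd v₀ hv₀).2
  have hc2 : c * c = 1 := by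
    refine mul_right_cancel₀ hx₀ ?_
    rw [mul_assoc, ← hc, ← hc, one_mul]
  rcases mul_self_eq_one_iff.1 hc2 with rfl | rfl
  · have hsymm : ∀ u v, f u v = f v u := fun u v => ((hc u v).trans (one_mul _)).symm
    have hpol : QuadraticMap.polar (fun w => f w w / 2) = f := funext fun u => funext fun v => by
      simp only [QuadraticMap.polar, hb.add_left, hb.add_right, hsymm v u]
      field_simp
      ring
    exact ⟨fun w => f w w / 2,
      ⟨fun c v => by simp only [hb.smul_left, hb.smul_right]; ring, by rw [hpol]; exact hb, by rw [hpol]; exact hnd⟩,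
      fun s hs v => by simp only [hfix s hs]⟩
  · exfalso
    refine Asch.not_alternating (by decide : Odd (Fintype.card (Fin 3))) hb (fun v => ?_) hnd
    have h' : (2 : F) * f v v = 0 := by linear_combination hc v v
    exact (mul_eq_zero.1 h').resolve_left h2

/-- Semilinear traces give a unitary form, unless another form is fixed. -/
theorem exists_unitary [Fintype F] (hirr : ActsAbsolutelyIrreducibly (matrixSet L)) {σ : F ≃+* F}
    (hne : σ ≠ RingEquiv.refl F) (hinv : ∀ a, σ (σ a) = a)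
    (h : ∀ g : L, σ (trC g) = trC g⁻¹) :
    (∃ Q : (Fin 3 → F) → F, IsNondegenerateQuadraticForm Q ∧ FixesQuadForm (matrixSet L) Q) ∨
    (∃ f : (Fin 3 → F) → (Fin 3 → F) → F, IsSymplecticForm f ∧ FixesForm (matrixSet L) f) ∨
    (∃ (σ : F ≃+* F) (f : (Fin 3 → F) → (Fin 3 → F) → F), IsUnitaryForm σ f ∧ FixesForm (matrixSet L) f) := by
  obtain ⟨f, hf, hnd, hfix⟩ := exists_form_of_trace (σ := σ) hirr (fun g hg => h ⟨g, hg⟩) hinv
  rcases Asch.inFormClass_of_sesq (H := L) (fun h hh x hx => L.mul_mem (L.mul_mem hh hx) (L.inv_mem hh))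
    hirr hne hinv hf hnd hfix with ⟨-, Q, hQ, hfQ, -⟩ | ⟨f', hf', hff, -⟩ | ⟨τ, f', hu, hfu, -⟩
  · exact Or.inl ⟨Q, hQ, hfQ⟩
  · exact Or.inr (Or.inl ⟨f', hf', hff⟩)
  · exact Or.inr (Or.inr ⟨τ, f', hu, hfu⟩)

end CfsgLib.Geo.SL3.Residual
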