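/-
The types of a core that is realisable over no smaller field and has no transvections.
-/
import Cfsg.Agent.Lib.Geo.SL3.Residual.Shapes
import Cfsg.Agent.Lib.Geo.SL3.Engine.Main

set_option autoImplicit false

namespace CfsgLib.Geo.SL3.Residual

open Cfsg.Geo

variable {F : Type*} [Field F] {L : Subgroup (GL (Fin 3) F)}

theorem nonempty_sl_three_two :
    Nonempty (Matrix.ProjectiveSpecialLinearGroup (Fin 3) (ZMod 2) ≃* Matrix.SpecialLinearGroup (Fin 3) (ZMod 2)) := by
  have hbot : Subgroup.center (Matrix.SpecialLinearGroup (Fin 3) (ZMod 2)) = ⊥ := by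
    rw [← Subgroup.card_eq_one, CfsgLib.Classical.card_center_SL, Fintype.card_fin, ZMod.card]; rfl
  exact ⟨(QuotientGroup.quotientMulEquivOfEq hbot).trans QuotientGroup.quotientBot⟩

/-- The cores without transvections in odd characteristic. -/
theorem core_types [Fintype F] (p : ℕ) [Fact p.Prime] [CharP F p] (hp : p ≠ 2) (hL : IsCore L)
    (hT : NoTransvection L) :
    TraceMap L 1 (-1) ∨
    (Zsub L = ⊥ ∧ Nonempty ((L ⧸ (scalars (Fin 3) F).subgroupOf L) ≃*
      Matrix.ProjectiveSpecialLinearGroup (Fin 3) (ZMod 2))) ∨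
    Nonempty ((L ⧸ (scalars (Fin 3) F).subgroupOf L) ≃* alternatingGroup (Fin 6)) ∨
    (p = 5 ∧ Nonempty ((L ⧸ (scalars (Fin 3) F).subgroupOf L) ≃* alternatingGroup (Fin 7))) := by
  classical
  have h2 : (2 : F) ≠ 0 := by
    intro h
    have h' : ((2 : ℕ) : F) = 0 := by exact_mod_cast h
    rw [CharP.cast_eq_zero_iff F p] at h'
    exact hp ((Nat.prime_dvd_prime_iff_eq Fact.out Nat.prime_two).1 h')
  rcases Engine.conclusion h2 hL hT with ⟨K, i1, i2, hodd, h3, ⟨e⟩, hsmall⟩ | ⟨h5, he⟩
  · by_cases h5 : Fintype.card K = 5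
    · obtain ⟨e5⟩ := CfsgLib.Classical.nonempty_psl_five_equiv_alt h5
      refine Or.inl (traceMap_real p hL.le (scalars_trivial hL hodd h3 (by omega) e) fun x => Or.inr ?_)
      exact real_alt_five.congr (e.trans e5).symm x
    by_cases h7 : Fintype.card K = 7
    · obtain ⟨e7⟩ := CfsgLib.Classical.Seven.nonempty_psl_seven_equiv (K := ZMod 2) h7 (ZMod.card 2)
      exact Or.inr (Or.inl ⟨scalars_trivial hL hodd h3 (by omega) e, ⟨e.trans e7⟩⟩)
    by_cases h9 : Fintype.card K = 9
    · obtain ⟨e9⟩ := CfsgLib.Classical.nonempty_psl_nine_equiv_alt h9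
      exact Or.inr (Or.inr (Or.inl ⟨e.trans e9⟩))
    have hchar : ringChar K = p := (hsmall.resolve_left (by omega)).trans (ringChar.eq F p)
    haveI : CharP K p := hchar ▸ ringChar.charP K
    refine Or.inl (traceMap_real p hL.le (scalars_trivial hL hodd h3 h9 e) fun x => ?_)
    rcases psl_two_cases p hp (e x) with h | ⟨y, hy⟩
    · exact Or.inl (e.injective (by simpa using h))
    · exact Or.inr ⟨e.symm y, e.injective (by simpa using hy)⟩
  · refine Or.inr (Or.inr (Or.inr ⟨?_, he⟩))
    have h' : ((5 : ℕ) : F) = 0 := by exact_mod_cast h5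
    rw [CharP.cast_eq_zero_iff F p] at h'
    exact (Nat.prime_dvd_prime_iff_eq Fact.out (by norm_num)).1 h'

end CfsgLib.Geo.SL3.Residual
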