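/-
L3(2) inside the subgroup of order 7560 of SU(3,5).
-/
import Cfsg.Agent.Lib.Geo.SL3.Residual.FiveTable
import Cfsg.Agent.Lib.LocalEvenB.UnitaryFive.Model

set_option autoImplicit false

namespace CfsgLib.Geo.SL3.Residual.Five

open Matrix CfsgLib.LocalEvenB.UnitaryFive CfsgLib.Classical.Seven

abbrev S3 := Matrix.SpecialLinearGroup (Fin 3) (ZMod 2)

theorem el3_bijective : Function.Bijective el3 := by
  classical
  have h3 := CfsgLib.Classical.card_SL (F := ZMod 2) 3 (by norm_num)
  rw [ZMod.card, Fin.prod_univ_three] at h3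
  norm_num at h3
  rw [Fintype.bijective_iff_injective_and_card]
  refine ⟨fun i j h => mat3_injective (congrArg Subtype.val h), ?_⟩
  rw [Fintype.card_fin]
  first | exact h3.symm | (rw [← Nat.card_eq_fintype_card]; omega)

variable {F : Type*} [Field F] [CharP F 5] {s : F} (hs : s ^ 2 = 2)
include hs

/-- The image of an element in SU(3,5). -/
def imgEl (i : Fin 168) : Cfsg.SU 3 F 5 := el hs (img_ok i)

theorem imgEl_step (i : Fin 168) (g : Fin 2) : imgEl hs (gi g) * imgEl hs i = imgEl hs (nxt i g) := by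
  apply mt_inj
  rw [map_mul]
  show toM s (img (gi g)) * toM s (img i) = toM s (img (nxt i g))
  rw [toM_okMul hs (by norm_num) (img_step i g), pow_zero, one_smul]

theorem imgEl_zero : imgEl hs 0 = 1 := by
  apply mt_inj
  rw [map_one]
  show toM s (img 0) = 1
  rw [img_zero]
  ext i j
  rw [toM, Matrix.of_apply, ent_pack _ _ (fun k _ => by split_ifs <;> norm_num) _ (by omega)]
  fin_cases i <;> fin_cases j <;> simp [dec]

theorem exists_model [Finite F] : ∃ φ : S3 →* Cfsg.SU 3 F 5,
    (∀ i, φ (el3 i) = imgEl hs i) ∧ ∀ x, φ x ∈ grp hs := by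
  obtain ⟨φ, hφ⟩ := CfsgLib.Classical.Dickson.exists_hom_of_steps el3 el3_bijective (imgEl hs) gi nxt
    (Subtype.ext (by decide +kernel)) (imgEl_zero hs) (fun i g => Subtype.ext (mul_mat3 i g)) (imgEl_step hs) reach
  refine ⟨φ, hφ, fun x => ?_⟩
  obtain ⟨i, rfl⟩ := el3_bijective.2 x
  rw [hφ]
  refine CfsgLib.Classical.Dickson.mem_of_steps (imgEl hs) gi nxt (imgEl_zero hs) (imgEl_step hs) reach (grp hs) ?_ i
  intro g
  fin_cases g
  · obtain ⟨a, ha, hma⟩ := exists_elem hs (i := 3) (by norm_num) 1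
    convert ha
    apply mt_inj
    rw [hma]
    show toM s (img (gi 0)) = _
    rw [img_gen.1, toM_scale hs 1 _ (by norm_num)]
    rfl
  · obtain ⟨a, ha, hma⟩ := exists_elem hs (i := 21) (by norm_num) 2
    convert ha
    apply mt_inj
    rw [hma]
    show toM s (img (gi 1)) = _
    rw [img_gen.2, toM_scale hs 2 _ (by norm_num)]
    rfl

theorem trace_imgEl (i : Fin 168) : (mt (imgEl hs i)).trace = dec s (imgTr i) := by
  show (toM s (img i)).trace = _
  rw [Matrix.trace_fin_three, imgTr, dec_fadd hs, dec_fadd hs]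
  rfl

end CfsgLib.Geo.SL3.Residual.Five
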