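/-
Traces of elements of small order in SL(3), and equivalence of representations with equal traces.
-/
import Cfsg.Agent.Lib.Geo.SL3.Residual.Equiv
import Mathlib.LinearAlgebra.Matrix.Determinant.Basic

set_option autoImplicit false

namespace CfsgLib.Geo.SL3.Residual

open Matrix Cfsg.Geo

section Cayley

variable {R : Type*} [CommRing R]

/-- The second elementary symmetric function of the eigenvalues. -/
def minorSum (A : Matrix (Fin 3) (Fin 3) R) : R :=
  A 0 0 * A 1 1 - A 0 1 * A 1 0 + (A 0 0 * A 2 2 - A 0 2 * A 2 0) + (A 1 1 * A 2 2 - A 1 2 * A 2 1)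

theorem cayley_three (A : Matrix (Fin 3) (Fin 3) R) :
    A * A * A - A.trace • (A * A) + minorSum A • A - A.det • (1 : Matrix (Fin 3) (Fin 3) R) = 0 := by
  ext i j
  fin_cases i <;> fin_cases j <;>
    simp [minorSum, Matrix.mul_apply, Fin.sum_univ_three, Matrix.det_fin_three, Matrix.trace_fin_three] <;> ring

theorem trace_sq_three (A : Matrix (Fin 3) (Fin 3) R) : (A * A).trace = A.trace ^ 2 - 2 * minorSum A := by
  simp [minorSum, Matrix.mul_apply, Fin.sum_univ_three, Matrix.trace_fin_three]
  ring

end Cayley

variable {F : Type*} [Field F]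

/-- With determinant one the cubic identity has the trace of the inverse as coefficient. -/
theorem cayley_inv {A A' : Matrix (Fin 3) (Fin 3) F} (hd : A.det = 1) (h : A * A' = 1) :
    A'.trace = minorSum A := by
  have h1 := congrArg (fun X => (X * A').trace) (cayley_three A)
  simp only [sub_mul, add_mul, Matrix.smul_mul, Matrix.mul_assoc, h, mul_one, one_mul, Matrix.trace_sub,
    Matrix.trace_add, Matrix.trace_smul, hd, smul_eq_mul, zero_mul, Matrix.trace_zero, Matrix.trace_one,
    Fintype.card_fin, trace_sq_three] at h1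
  push_cast at h1
  linear_combination -h1

theorem trace_order_two {A : Matrix (Fin 3) (Fin 3) F} (hd : A.det = 1) (h : A * A = 1) (hne : A ≠ 1) :
    A.trace = -1 := by
  have hs := cayley_inv hd h
  have h1 := cayley_three A
  rw [← hs, h, one_mul, hd, one_smul] at h1
  by_contra ht
  apply hne
  have h2 : (1 + A.trace) • A = (1 + A.trace) • (1 : Matrix (Fin 3) (Fin 3) F) := by
    rw [← sub_eq_zero, ← h1, add_smul, add_smul, one_smul, one_smul]
    abel
  refine smul_right_injective _ ?_ h2
  intro h0
  exact ht (by linear_combination h0)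

theorem trace_order_three {A : Matrix (Fin 3) (Fin 3) F} (hd : A.det = 1) (h : A * A * A = 1)
    (hr : (A * A).trace = A.trace) (hne : A ≠ 1) : A.trace = 0 := by
  have hs := cayley_inv hd (show A * (A * A) = 1 by rw [← Matrix.mul_assoc, h])
  have h1 := cayley_three A
  rw [← hs, hr, h, hd, one_smul] at h1
  by_contra ht
  apply hne
  have h2 : A.trace • (A * A) = A.trace • A := by
    rw [← sub_eq_zero]
    calc A.trace • (A * A) - A.trace • A = -(1 - A.trace • (A * A) + A.trace • A - 1) := by abel
      _ = 0 := by rw [h1, neg_zero]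
  have h3 : A * A = A := smul_right_injective _ ht h2
  rw [h3, h3] at h
  exact h

theorem trace_order_four {A A' : Matrix (Fin 3) (Fin 3) F} (hd : A.det = 1) (hi : A * A' = 1)
    (h : A * A * (A * A) = 1) (hr : A'.trace = A.trace) (hne : A * A ≠ 1) : A.trace = 1 := by
  have h1 := trace_order_two (by rw [Matrix.det_mul, hd, mul_one]) h hne
  rw [trace_sq_three, ← cayley_inv hd hi, hr] at h1
  have h2 : (A.trace - 1) * (A.trace - 1) = 0 := by linear_combination h1
  exact sub_eq_zero.1 (mul_self_eq_zero.1 h2)

theorem trace_order_seven (h2 : (2 : F) ≠ 0) {A A' : Matrix (Fin 3) (Fin 3) F} (hd : A.det = 1)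
    (hd' : A'.det = 1) (hi : A * A' = 1) (hi' : A' * A = 1) (h : (A * A).trace = A.trace)
    (h' : (A' * A').trace = A'.trace) (hne : A'.trace ≠ A.trace) :
    A'.trace = -1 - A.trace ∧ A.trace ^ 2 + A.trace + 2 = 0 := by
  rw [trace_sq_three, ← cayley_inv hd hi] at h
  rw [trace_sq_three, ← cayley_inv hd' hi'] at h'
  set t := A.trace
  set s := A'.trace
  have h3 : (t - s) * (t + s + 1) = 0 := by linear_combination h - h'
  have h4 := (mul_eq_zero.1 h3).resolve_left (sub_ne_zero.2 (Ne.symm hne))
  refine ⟨by linear_combination h4, ?_⟩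
  linear_combination h + 2 * h4

variable {ι : Type} [Fintype ι] [DecidableEq ι] [Nonempty ι]

/-- A representation with the traces of an absolutely irreducible group is equivalent to it. -/
theorem exists_conj_of_trace_eq' {N : Subgroup (GL ι F)} (hN : ActsAbsolutelyIrreducibly (matrixSet N))
    (ρ : N →* GL ι F)
    (ht : ∀ g : N, ((ρ g : GL ι F) : Matrix ι ι F).trace = ((g : GL ι F) : Matrix ι ι F).trace) :
    ∃ B : GL ι F, ∀ g : N, ρ g = B * (g : GL ι F) * B⁻¹ := by
  classical
  refine exists_conj_of_trace_eq hN ρ ht fun D hD => ?_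
  obtain ⟨κ, b, hκ, hb⟩ := exists_basis hN
  haveI : Finite κ := Module.Finite.finite_basis b
  haveI := Fintype.ofFinite κ
  choose! c hcmem hc using fun x (hx : x ∈ κ) => hκ hx
  let v : κ → Matrix ι ι F := fun i => ((ρ ⟨c i, hcmem _ i.2⟩ : GL ι F) : Matrix ι ι F)
  have hli : LinearIndependent F v := by
    rw [Fintype.linearIndependent_iff]
    intro w hw
    have hz : ∑ i, w i • b i = 0 := eq_zero_of_trace hN fun g hg => by
      have h1 := congrArg (fun X => (X * ((ρ ⟨g, hg⟩ : GL ι F) : Matrix ι ι F)).trace) hw
      simp only [Finset.sum_mul, Matrix.smul_mul, Matrix.trace_sum, Matrix.trace_smul, zero_mul, Matrix.trace_zero,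
        v, ← Units.val_mul, ← map_mul, ht] at h1
      simp only [Finset.sum_mul, Matrix.smul_mul, Matrix.trace_sum, Matrix.trace_smul]
      rw [← h1]
      refine Finset.sum_congr rfl fun i _ => ?_
      rw [hb, Subgroup.coe_mul, Units.val_mul]
      simp only [hc _ i.2]
    exact Fintype.linearIndependent_iff.1 b.linearIndependent w hz
  have hspan : Submodule.span F (Set.range v) = ⊤ :=
    hli.span_eq_top_of_card_eq_finrank' (Module.finrank_eq_card_basis b).symm
  have hz : ∀ X, (D * X).trace = 0 := fun X => by
    have hX : X ∈ Submodule.span F (Set.range v) := hspan ▸ Submodule.mem_top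
    induction hX using Submodule.span_induction with
    | mem x hx => obtain ⟨i, rfl⟩ := hx; exact hD _
    | zero => simp
    | add x y _ _ hx hy => rw [mul_add, Matrix.trace_add, hx, hy, add_zero]
    | smul a x _ hx => rw [Matrix.mul_smul, Matrix.trace_smul, hx, smul_zero]
  ext i j
  simpa [Matrix.trace_mul_single] using hz (Matrix.single j i 1)

end CfsgLib.Geo.SL3.Residual
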