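/-
The traces and trace-preserving automorphisms of L3(2) in SL(3) over the field with 25 elements.
-/
import Cfsg.Agent.Lib.Geo.SL3.Residual.FiveModel
import Cfsg.Agent.Lib.Geo.SL3.Residual.SevenTrace

set_option autoImplicit false

namespace CfsgLib.Geo.SL3.Residual.Five

open Matrix Cfsg.Geo CfsgLib.LocalEvenB.UnitaryFive CfsgLib.Classical.Seven

variable {F : Type*} [Field F] [CharP F 5] {ρ : S3 →* GL (Fin 3) F}

local notation "tr' " x => Matrix.trace ((x : GL (Fin 3) F) : Matrix (Fin 3) (Fin 3) F)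

theorem el3_zero : el3 (0 : Fin 168) = 1 := Subtype.ext (by decide +kernel)

theorem el3_product : el3 (gi 0) * el3 (gi 1) = el3 4 := Subtype.ext seven_base.2

theorem conj_of_comm {k i j : Fin 168} (h : mat3 k * mat3 i = mat3 j * mat3 k) :
    el3 k * el3 i * (el3 k)⁻¹ = el3 j :=
  mul_inv_eq_of_eq_mul (show el3 k * el3 i = el3 j * el3 k from Subtype.ext h)

theorem conj_inv_of {i j k : Fin 168} (h : mat3 j * mat3 k * mat3 i = mat3 k) :
    el3 k * el3 i * (el3 k)⁻¹ = (el3 j)⁻¹ := by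
  rw [mul_inv_eq_iff_eq_mul, eq_inv_mul_iff_mul_eq, ← mul_assoc]
  exact Subtype.ext h

theorem conj_inv_self {i k : Fin 168} (h : mat3 i * mat3 k * mat3 i = mat3 k) :
    el3 k * el3 i * (el3 k)⁻¹ = (el3 i)⁻¹ := conj_inv_of h

omit [CharP F 5] in
theorem tr_conj (ρ : S3 →* GL (Fin 3) F) {a b : S3} (h : ∃ y, y * a * y⁻¹ = b) : (tr' ρ b) = tr' ρ a := by
  obtain ⟨y, rfl⟩ := h
  rw [map_mul, map_mul, map_inv, Units.val_mul, Units.val_mul, Matrix.trace_mul_cycle, Units.inv_mul, one_mul]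

omit [CharP F 5] in
theorem real_of_base (ρ : S3 →* GL (Fin 3) F) (hre : (tr' ρ (el3 4)⁻¹) = tr' ρ (el3 4)) (x : S3) :
    (tr' ρ x⁻¹) = tr' ρ x := by
  obtain ⟨i, rfl⟩ := el3_bijective.2 x
  rcases class_table i with ⟨rfl, -⟩ | ⟨⟨hi, hsq⟩, -⟩ | ⟨⟨hi, hcube, hw⟩, -⟩ | ⟨⟨hi, hfour, hw⟩, -⟩ |
    ⟨hw, -⟩ | ⟨hw, -⟩
  · rw [el3_zero, inv_one]
  · rw [inv_eq_of_mul_eq_one_right (show el3 i * el3 i = 1 from Subtype.ext hsq)]
  · rw [inv_eq_of_mul_eq_one_right
      (show el3 i * (el3 i * el3 i) = 1 from (mul_assoc _ _ _).symm.trans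
        (show el3 i * el3 i * el3 i = 1 from Subtype.ext hcube))]
    exact tr_conj ρ ⟨el3 (wit classWit i), mul_inv_eq_of_eq_mul
      (show el3 (wit classWit i) * el3 i = el3 i * el3 i * el3 (wit classWit i) from Subtype.ext hw)⟩
  · exact tr_conj ρ ⟨_, conj_inv_self hw⟩
  · have hc := conj_of_comm (k := wit classWit i) (i := i) (j := 4) hw
    rw [← tr_conj ρ (a := (el3 i)⁻¹) (b := (el3 4)⁻¹) ⟨el3 (wit classWit i), by rw [← conj_inv, hc]⟩]
    exact hre.trans (tr_conj ρ ⟨_, hc⟩)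
  · have hc := conj_inv_of (k := wit classWit i) (i := i) (j := 4) hw
    rw [← tr_conj ρ (a := (el3 i)⁻¹) (b := el3 4) ⟨el3 (wit classWit i), by rw [← conj_inv, hc, inv_inv]⟩]
    exact hre.symm.trans (tr_conj ρ ⟨_, hc⟩)

set_option maxHeartbeats 1000000 in
/-- A faithful representation that is not real has the traces of the model. -/
theorem trace_match (hinj : Function.Injective ρ)
    (hdet : ∀ x, ((ρ x : GL (Fin 3) F) : Matrix (Fin 3) (Fin 3) F).det = 1)
    (hne : (tr' ρ (el3 4)⁻¹) ≠ tr' ρ (el3 4)) :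
    ∃ s : F, s ^ 2 = 2 ∧ ∀ i, (tr' ρ (el3 i)) = dec s (imgTr i) := by
  have h5 : (5 : F) = 0 := by exact_mod_cast CharP.cast_eq_zero F 5
  have h2 : (2 : F) ≠ 0 := by
    intro h
    have h' : ((2 : ℕ) : F) = 0 := by exact_mod_cast h
    rw [CharP.cast_eq_zero_iff F 5] at h'
    norm_num at h'
  have hmul : ∀ x y, ((ρ (x * y) : GL (Fin 3) F) : Matrix (Fin 3) (Fin 3) F) =
      ((ρ x : GL (Fin 3) F) : Matrix (Fin 3) (Fin 3) F) * ((ρ y : GL (Fin 3) F) : Matrix (Fin 3) (Fin 3) F) :=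
    fun x y => by rw [map_mul, Units.val_mul]
  have hone : ((ρ 1 : GL (Fin 3) F) : Matrix (Fin 3) (Fin 3) F) = 1 := by rw [map_one, Units.val_one]
  have hker : ∀ x, ((ρ x : GL (Fin 3) F) : Matrix (Fin 3) (Fin 3) F) = 1 → x = 1 := fun x hx =>
    hinj (by rw [map_one]; exact Units.ext hx)
  set X := el3 (4 : Fin 168) with hX
  obtain ⟨y, hy⟩ : ∃ y, y * X * y⁻¹ = X * X :=
    ⟨el3 95, mul_inv_eq_of_eq_mul (show el3 95 * X = X * X * el3 95 from Subtype.ext seven_base.1)⟩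
  obtain ⟨hbar, heq⟩ := trace_order_seven h2 (hdet X) (hdet X⁻¹)
    (by rw [← hmul, mul_inv_cancel, hone]) (by rw [← hmul, inv_mul_cancel, hone])
    (by rw [← hmul]; exact tr_conj ρ ⟨y, hy⟩)
    (by rw [← hmul]; exact tr_conj ρ ⟨y, by rw [← conj_inv, hy, _root_.mul_inv_rev]⟩) hne
  set η := (tr' ρ X) with hη
  refine ⟨η - 2, by linear_combination heq - η * h5, fun i => ?_⟩
  have hnei : i ≠ 0 → ((ρ (el3 i) : GL (Fin 3) F) : Matrix (Fin 3) (Fin 3) F) ≠ 1 := fun hi h =>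
    hi (el3_bijective.1 ((hker _ h).trans el3_zero.symm))
  rcases class_table i with ⟨rfl, h⟩ | ⟨⟨hi, hsq⟩, h⟩ | ⟨⟨hi, hcube, hw⟩, h⟩ | ⟨⟨hi, hfour, hw⟩, h⟩ |
    ⟨hw, h⟩ | ⟨hw, h⟩ <;> rw [h]
  · rw [el3_zero, hone]
    simp [dec]
  · rw [trace_order_two (hdet _) (by rw [← hmul, show el3 i * el3 i = 1 from Subtype.ext hsq, hone]) (hnei hi)]
    simp [dec]
    linear_combination -h5
  · rw [trace_order_three (hdet _)
      (by rw [← hmul, ← hmul, show el3 i * el3 i * el3 i = 1 from Subtype.ext hcube, hone])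
      (by rw [← hmul]; exact tr_conj ρ ⟨el3 (wit classWit i), mul_inv_eq_of_eq_mul
        (show el3 (wit classWit i) * el3 i = el3 i * el3 i * el3 (wit classWit i) from Subtype.ext hw)⟩)
      (hnei hi)]
    simp [dec]
  · rw [trace_order_four (A' := ((ρ (el3 i)⁻¹ : GL (Fin 3) F) : Matrix (Fin 3) (Fin 3) F)) (hdet _)
      (by rw [← hmul, mul_inv_cancel, hone])
      (by rw [← hmul, ← hmul, show el3 i * el3 i * (el3 i * el3 i) = 1 from Subtype.ext hfour, hone])
      (tr_conj ρ ⟨_, conj_inv_self hw⟩)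
      (fun h1 => by rw [← hmul] at h1; exact hi (congrArg Subtype.val (hker _ h1)))]
    simp [dec]
  · rw [← tr_conj ρ ⟨_, conj_of_comm (k := wit classWit i) (i := i) (j := 4) hw⟩]
    simp [dec]
    exact hη.symm
  · rw [← tr_conj ρ ⟨_, conj_inv_of (k := wit classWit i) (i := i) (j := 4) hw⟩, hbar]
    simp [dec]
    linear_combination (1 - η) * h5

set_option maxHeartbeats 1000000 in
/-- Trace-preserving automorphisms are inner. -/
theorem exists_inner {s : F} (hs : s ^ 2 = 2) (htr : ∀ i, (tr' ρ (el3 i)) = dec s (imgTr i)) (α : S3 →* S3)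
    (hαinj : Function.Injective α) (hαtr : ∀ x, (tr' ρ (α x)) = tr' ρ x) : ∃ x, ∀ y, α y = x * y * x⁻¹ := by
  set a := el3 (gi 0) with ha
  set b := el3 (gi 1) with hb
  have haa : a * a = 1 := Subtype.ext (by decide +kernel)
  have hbb : b * b * b = 1 := Subtype.ext (by decide +kernel)
  have ha1 : a ≠ 1 := fun h => absurd (congrArg Subtype.val h) (by decide +kernel)
  have hb1 : b ≠ 1 := fun h => absurd (congrArg Subtype.val h) (by decide +kernel)
  obtain ⟨i, hi⟩ := el3_bijective.2 (α a)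
  have hi2 : el3 i * el3 i = 1 := by rw [hi, ← map_mul, haa, map_one]
  have hi0 : i ≠ 0 := fun h => ha1 (hαinj (by rw [map_one, ← hi, h, el3_zero]))
  set k := el3 (wit invWit i) with hk
  have hka : k * α a * k⁻¹ = a := by rw [← hi]; exact conj_of_comm (inv_table i hi0 (congrArg Subtype.val hi2))
  obtain ⟨j, hj⟩ := el3_bijective.2 (k * α b * k⁻¹)
  have hj3 : el3 j * el3 j * el3 j = 1 := by
    rw [hj, show k * α b * k⁻¹ * (k * α b * k⁻¹) * (k * α b * k⁻¹) = k * (α b * α b * α b) * k⁻¹ by group,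
      ← map_mul, ← map_mul, hbb, map_one, mul_one, mul_inv_cancel]
  have hj0 : j ≠ 0 := fun h => hb1 (hαinj (by
    have h1 : k * α b * k⁻¹ = 1 := by rw [← hj, h, el3_zero]
    rw [map_one, conj_eq_one_iff.1 h1]))
  obtain ⟨m, hm⟩ := el3_bijective.2 (a * el3 j)
  have hm' : mat3 m = mat3 (gi 0) * mat3 j := congrArg Subtype.val hm
  have hm7 : imgTr m = 7 := by
    have h1 : el3 m = k * α (a * b) * k⁻¹ := by
      rw [hm, hj, map_mul]
      conv_lhs => rw [← hka]
      group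
    have hd7 : dec s (imgTr m) = dec s 7 := by
      rw [← htr, h1, tr_conj ρ ⟨k, rfl⟩, hαtr, el3_product, htr,
        show imgTr 4 = 7 by decide +kernel]
    refine dec_inj hs ?_ (by norm_num) hd7
    rw [imgTr, fadd]
    omega
  have htab := class_table m
  simp only [hm7] at htab
  norm_num at htab
  have hconjX := conj_of_comm (k := wit classWit m) (i := m) (j := 4) htab
  set X := el3 (4 : Fin 168) with hX
  set w := el3 (wit classWit m) with hw
  have hX' : el3 m = w⁻¹ * X * w := by rw [← hconjX]; group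
  have hpow : ∀ n : ℕ, X ^ n ≠ 1 → el3 m ^ n ≠ 1 := fun n hn h => hn (by
    rw [← hconjX, conj_pow, h, mul_one, mul_inv_cancel])
  have htr1 : (mat3 (gi 0) * mat3 j).trace = 1 := by
    rw [← hm', show mat3 m = (w⁻¹ : S3).1 * X.1 * w.1 from congrArg Subtype.val hX', Matrix.trace_mul_cycle,
      ← Matrix.SpecialLinearGroup.coe_mul, mul_inv_cancel, Matrix.SpecialLinearGroup.coe_one, one_mul]
    decide +kernel
  have h3ne : mat3 m * mat3 m * mat3 m ≠ 1 := fun h => hpow 3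
    (fun h' => absurd (congrArg Subtype.val h') (by decide +kernel))
    (by rw [pow_succ, pow_two]; exact Subtype.ext h)
  have h4ne : mat3 m * mat3 m * (mat3 m * mat3 m) ≠ 1 := fun h => hpow 4
    (fun h' => absurd (congrArg Subtype.val h') (by decide +kernel))
    (by rw [show (4 : ℕ) = 2 + 2 from rfl, pow_add, pow_two]; exact Subtype.ext h)
  rw [hm'] at h3ne h4ne
  obtain ⟨hta, htb⟩ := three_table j hj0 (congrArg Subtype.val hj3) htr1 h3ne h4ne
  set l := el3 (wit threeWit j) with hl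
  have hla : l * a * l⁻¹ = a := conj_of_comm hta
  have hlb : l * b * l⁻¹ = k * α b * k⁻¹ := by rw [← hj]; exact conj_of_comm htb
  refine ⟨k⁻¹ * l, ?_⟩
  let S : Subgroup S3 := MonoidHom.eqLocus α (MulAut.conj (k⁻¹ * l)).toMonoidHom
  intro y
  obtain ⟨i, rfl⟩ := el3_bijective.2 y
  show el3 i ∈ S
  refine CfsgLib.Classical.Dickson.mem_of_steps el3 gi nxt el3_zero
    (fun i g => Subtype.ext (mul_mat3 i g)) reach S (fun g => ?_) i
  fin_cases g
  · show α a = k⁻¹ * l * a * (k⁻¹ * l)⁻¹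
    rw [show k⁻¹ * l * a * (k⁻¹ * l)⁻¹ = k⁻¹ * (l * a * l⁻¹) * k by group, hla]
    conv_rhs => rw [← hka]
    group
  · show α b = k⁻¹ * l * b * (k⁻¹ * l)⁻¹
    rw [show k⁻¹ * l * b * (k⁻¹ * l)⁻¹ = k⁻¹ * (l * b * l⁻¹) * k by group, hlb]
    group

end CfsgLib.Geo.SL3.Residual.Five
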