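/-
Cores with transvections, and the field of realisation.
-/
import Cfsg.Agent.Lib.Geo.SL3.Trans.Classify
import Cfsg.Agent.Lib.Geo.SL3.Engine.Main
import Cfsg.Agent.Lib.Geo.Asch.Forms
import Cfsg.Agent.Lib.OddLocal.Final.OddOrder
import Cfsg.Agent.Lib.Classical.Unitary.MatrixStructure

set_option autoImplicit false

namespace CfsgLib.Geo.SL3.Residual

open Matrix Cfsg.Geo CfsgLib.Geo.Roots CfsgLib.Geo.SL3.Trans

variable {F : Type*} [Field F] {L : Subgroup (GL (Fin 3) F)}

/-- In characteristic two every core has a transvection. -/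
theorem not_noTransvection [Finite F] (hL : IsCore L) (h2 : (2 : F) = 0) : ¬ NoTransvection L := by
  intro hT
  haveI : Fact (Nat.Prime 2) := ⟨Nat.prime_two⟩
  have hev : 2 ∣ Nat.card L := by
    by_contra hodd
    haveI := CfsgLib.OddLocal.FTFinal.odd_order_solvable (G := L) (Nat.odd_iff.2 (by omega))
    haveI := hL.simple
    haveI : Group.IsSolvable (L ⧸ (scalars (Fin 3) F).subgroupOf L) :=
      Group.isSolvable_of_surjective (QuotientGroup.mk'_surjective _)
    exact hL.nonabelian ⟨⟨fun a b => IsSimpleGroup.comm_iff_isSolvable.2 inferInstance a b⟩⟩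
  obtain ⟨g, hg⟩ := exists_prime_orderOf_dvd_card' (G := L) 2 hev
  set A := ((g : GL (Fin 3) F) : Matrix (Fin 3) (Fin 3) F) with hA
  have hsq : A * A = 1 := by
    have := congrArg (fun x : L => ((x : GL (Fin 3) F) : Matrix (Fin 3) (Fin 3) F)) (pow_orderOf_eq_one g)
    simpa [hg, sq] using this
  have hN : (A - 1) ^ 2 = 0 := by
    have h : (A - 1) ^ 2 = A * A - 1 - (2 : F) • (A - 1) := by rw [two_smul]; noncomm_ring
    rw [h, hsq, h2, zero_smul, sub_self, sub_zero]
  obtain ⟨u, φ, hu⟩ := Engine.exists_vecMulVec_of_sq_eq_zero hN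
  have hne : A - 1 ≠ 0 := fun h0 => by
    have : g = 1 := Subtype.ext (Units.ext (sub_eq_zero.1 h0))
    rw [this, orderOf_one] at hg
    omega
  have hdot : φ ⬝ᵥ u = 0 := by
    have h1 := hN
    rw [hu, pow_two, Matrix.vecMulVec_mul_vecMulVec, Matrix.vecMulVec_smul] at h1
    exact (smul_eq_zero.1 h1).resolve_right (hu ▸ hne)
  have hroot : Root L φ u := by
    refine ⟨hdot, ?_⟩
    convert g.2 using 1
    refine Units.ext ?_
    show 1 + Matrix.vecMulVec u φ = A
    rw [← hu, add_sub_cancel]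
  rcases hT φ u hroot with h0 | h0 <;> exact hne (by rw [hu, h0]; simp)

/-- A conjugate inside the matrices over a subfield. -/
theorem realisable_of_conjL {k : Subfield F} {B : GL (Fin 3) F}
    (h : ∀ g ∈ conjL B L, ∀ i j, (g : Matrix (Fin 3) (Fin 3) F) i j ∈ k) : RealisableOver k (matrixSet L) := by
  refine ⟨B, ?_⟩
  rintro _ ⟨g, hg, rfl⟩ i j
  have := h _ (mem_conjL.2 (show B⁻¹ * (B * g * B⁻¹) * B ∈ L by
    rw [show B⁻¹ * (B * g * B⁻¹) * B = g by group]; exact hg)) i j
  simpa using this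

/-- The linear type over the whole field. -/
theorem eq_specialLinear {k : Subfield F} {B : GL (Fin 3) F} (hL : IsCore L) (h : conjL B L = slRat k)
    (hk : k = ⊤) : L = specialLinear (Fin 3) F := by
  refine le_antisymm hL.le fun g hg => ?_
  have hm : B * g * B⁻¹ ∈ slRat k := mem_slRat (by
    show Matrix.GeneralLinearGroup.det (B * g * B⁻¹) = 1
    rw [det_conj_eq]
    exact hg) (fun i j => by rw [hk]; exact Subfield.mem_top _)
  rw [← h, mem_conjL, show B⁻¹ * (B * g * B⁻¹) * B = g by group] at hm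
  exact hm

theorem slRat_entries {k : Subfield F} {g : GL (Fin 3) F} (hg : g ∈ slRat k) (i j : Fin 3) :
    (g : Matrix (Fin 3) (Fin 3) F) i j ∈ k := by
  obtain ⟨M, rfl⟩ := hg
  exact (M.1 i j).2

/-- The hermitian form of a group of unitary type. -/
def uForm (σ : F →+* F) (η : F) (v w : Fin 3 → F) : F := η * (jvec σ η w ⬝ᵥ v)

section U

variable {k k2 : Subfield F} {σ : F →+* F} {η : F}

theorem _root_.CfsgLib.Geo.SL3.Trans.UnitaryType.le_entries (hU : UnitaryType L k k2 σ η) (hL : IsCore L)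
    (hT : ¬ NoTransvection L) : ∀ g ∈ L, ∀ i j, (g : Matrix (Fin 3) (Fin 3) F) i j ∈ k2 := by
  let N : Subgroup (GL (Fin 3) F) := (Matrix.GeneralLinearGroup.map (k2.subtype : k2 →+* F)).range
  have hN : L ≤ N := by
    refine le_of_roots hL hT fun φ u hr => ⟨hr.root.dot, ?_⟩
    obtain ⟨c, l, hc, -, hiso, hl, he⟩ := hU.allRoots φ u hr
    have hj : ∀ i, jvec σ η c i ∈ k2 := by
      intro i
      fin_cases i
      · exact hU.maps _ (hc 2)
      · exact k2.div_mem (hU.maps _ (hc 1)) hU.eta_mem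
      · exact k2.neg_mem (hU.maps _ (hc 0))
    have hent : ∀ i j, (transvectionGL φ u hr.root.dot : Matrix (Fin 3) (Fin 3) F) i j ∈ k2 := fun i j => by
      show (1 + Matrix.vecMulVec u φ : Matrix (Fin 3) (Fin 3) F) i j ∈ k2
      rw [he, Matrix.add_apply, Matrix.smul_apply, Matrix.vecMulVec_apply, Matrix.one_apply]
      refine add_mem ?_ (k2.mul_mem (hU.le hl) (k2.mul_mem (hc i) (hj j)))
      split_ifs
      exacts [k2.one_mem, k2.zero_mem]
    let M : Matrix (Fin 3) (Fin 3) k2 := fun i j => ⟨_, hent i j⟩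
    have hM : M.map k2.subtype = (transvectionGL φ u hr.root.dot : Matrix (Fin 3) (Fin 3) F) := rfl
    have hd : M.det ≠ 0 := by
      intro h0
      have := RingHom.map_det k2.subtype M
      rw [h0, map_zero, RingHom.mapMatrix_apply, hM] at this
      exact (Matrix.GeneralLinearGroup.det (transvectionGL φ u hr.root.dot)).ne_zero this.symm
    exact ⟨Matrix.GeneralLinearGroup.mkOfDetNeZero M hd, Units.ext hM⟩
  intro g hg i j
  obtain ⟨M, rfl⟩ := hN hg
  exact (M.1 i j).2

/-- Over the whole field the map is a field automorphism of order two. -/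
theorem _root_.CfsgLib.Geo.SL3.Trans.UnitaryType.aut (hU : UnitaryType L k k2 σ η) (htop : k2 = ⊤) [Finite F] :
    ∃ τ : F ≃+* F, (∀ a, τ a = σ a) ∧ τ ≠ RingEquiv.refl F ∧ ∀ a, τ (τ a) = a := by
  have hinv : ∀ a, σ (σ a) = a := fun a => hU.invol a (htop ▸ Subfield.mem_top a)
  refine ⟨RingEquiv.ofBijective σ ⟨σ.injective, fun a => ⟨σ a, hinv a⟩⟩, fun a => rfl, ?_, hinv⟩
  intro h
  have hk : (k : Set F) = Set.univ := Set.eq_univ_of_forall fun a => (hU.fix a).1 (RingEquiv.congr_fun h a)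
  have h1 : Nat.card k = Nat.card F := by
    exact Nat.card_congr (Equiv.subtypeUnivEquiv fun a => show a ∈ (k : Set F) from hk ▸ Set.mem_univ a)
  have h2 : Nat.card k2 = Nat.card F := by
    subst htop
    exact Nat.card_congr Subfield.topEquiv.toEquiv
  have h3 := hU.card
  rw [h1, h2] at h3
  have h4 : 1 < Nat.card F := Finite.one_lt_card
  nlinarith

theorem uForm_add_left (σ : F →+* F) (η : F) (x y v : Fin 3 → F) :
    uForm σ η (x + y) v = uForm σ η x v + uForm σ η y v := by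
  simp [uForm, dotProduct_add, mul_add]

theorem uForm_smul_left (σ : F →+* F) (η a : F) (x v : Fin 3 → F) :
    uForm σ η (a • x) v = a * uForm σ η x v := by
  simp [uForm, dotProduct_smul]; ring

theorem _root_.CfsgLib.Geo.SL3.Trans.UnitaryType.uForm_herm (hU : UnitaryType L k k2 σ η)
    (hinv : ∀ a, σ (σ a) = a) (v w : Fin 3 → F) : uForm σ η v w = σ (uForm σ η w v) := by
  have := hU.eta_ne
  simp only [uForm, jvec, dotProduct, Fin.sum_univ_three, map_mul, map_add, map_neg, map_div₀, hinv, hU.eta_skew,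
    Matrix.cons_val_zero, Matrix.cons_val_one, Matrix.cons_val_two, Matrix.head_cons, Matrix.tail_cons]
  field_simp
  ring

theorem _root_.CfsgLib.Geo.SL3.Trans.UnitaryType.uForm_add_right (hU : UnitaryType L k k2 σ η)
    (hinv : ∀ a, σ (σ a) = a) (v x y : Fin 3 → F) :
    uForm σ η v (x + y) = uForm σ η v x + uForm σ η v y := by
  rw [hU.uForm_herm hinv, uForm_add_left, map_add, ← hU.uForm_herm hinv, ← hU.uForm_herm hinv]

theorem _root_.CfsgLib.Geo.SL3.Trans.UnitaryType.uForm_smul_right (hU : UnitaryType L k k2 σ η)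
    (hinv : ∀ a, σ (σ a) = a) (a : F) (v x : Fin 3 → F) : uForm σ η v (a • x) = σ a * uForm σ η v x := by
  rw [hU.uForm_herm hinv, uForm_smul_left, map_mul, ← hU.uForm_herm hinv]

/-- A transvection along an isotropic vector and the form. -/
theorem _root_.CfsgLib.Geo.SL3.Trans.UnitaryType.uForm_transvection (hU : UnitaryType L k k2 σ η)
    (hinv : ∀ a, σ (σ a) = a) {c : Fin 3 → F} (hc : jvec σ η c ⬝ᵥ c = 0) (l : F) (v w : Fin 3 → F) :
    uForm σ η (v + (l * (jvec σ η c ⬝ᵥ v)) • c) (w + (l * (jvec σ η c ⬝ᵥ w)) • c) =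
      uForm σ η v w + (σ l - l) * (η * ((jvec σ η c ⬝ᵥ v) * σ (jvec σ η c ⬝ᵥ w))) := by
  have hcc : uForm σ η c c = 0 := by rw [uForm, hc, mul_zero]
  have hvc : uForm σ η v c = η * (jvec σ η c ⬝ᵥ v) := rfl
  have hcw : uForm σ η c w = -(η * σ (jvec σ η c ⬝ᵥ w)) := by
    rw [hU.uForm_herm hinv, uForm, map_mul, hU.eta_skew, neg_mul]
  rw [uForm_add_left, hU.uForm_add_right hinv, hU.uForm_add_right hinv, uForm_smul_left, uForm_smul_left,
    hU.uForm_smul_right hinv, hU.uForm_smul_right hinv, hcc, hvc, hcw, map_mul]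
  ring

theorem _root_.CfsgLib.Geo.SL3.Trans.UnitaryType.fixesForm (hU : UnitaryType L k k2 σ η) (hL : IsCore L)
    (hT : ¬ NoTransvection L) (hinv : ∀ a, σ (σ a) = a) :
    FixesForm (matrixSet L) (uForm σ η) := by
  have hN : L ≤ Cfsg.preserving (Units.coeHom (Matrix (Fin 3) (Fin 3) F)) (uForm σ η) := by
    refine le_of_roots hL hT fun φ u hr => ⟨hr.root.dot, fun v w => ?_⟩
    obtain ⟨c, l, hc, -, hiso, hl, he⟩ := hU.allRoots φ u hr
    have hx : ∀ x, (transvectionGL φ u hr.root.dot : Matrix (Fin 3) (Fin 3) F) *ᵥ x =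
        x + (l * (jvec σ η c ⬝ᵥ x)) • c := fun x => by
      show (1 + Matrix.vecMulVec u φ) *ᵥ x = _
      rw [he, Matrix.add_mulVec, Matrix.one_mulVec, Matrix.smul_mulVec, Matrix.vecMulVec_mulVec, op_smul_eq_smul,
        smul_smul]
    show uForm σ η ((transvectionGL φ u hr.root.dot : Matrix (Fin 3) (Fin 3) F) *ᵥ v)
      ((transvectionGL φ u hr.root.dot : Matrix (Fin 3) (Fin 3) F) *ᵥ w) = _
    rw [hx, hx, hU.uForm_transvection hinv hiso, (hU.fix l).2 hl, sub_self, zero_mul, add_zero]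
  rintro _ ⟨g, hg, rfl⟩ v w
  exact hN hg v w

theorem _root_.CfsgLib.Geo.SL3.Trans.UnitaryType.nondegenerate (hU : UnitaryType L k k2 σ η)
    (hinv : ∀ a, σ (σ a) = a) : IsNondegenerateForm (uForm σ η) := by
  have key : ∀ v : Fin 3 → F, v ≠ 0 → ∃ x, uForm σ η x v ≠ 0 := by
    intro v hv
    by_contra! hall
    have hne := hU.eta_ne
    have hj : ∀ i, jvec σ η v i = 0 := fun i => by
      have := hall (Pi.single i 1)
      simpa [uForm, hne] using this
    have h0 := hj 0
    have h1 := hj 1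
    have h2 := hj 2
    simp [jvec, hne] at h0 h1 h2
    exact hv (funext fun i => by fin_cases i <;> simp [h0, h1, h2])
  intro v hv
  refine ⟨key v hv, ?_⟩
  obtain ⟨x, hx⟩ := key v hv
  exact ⟨x, fun h0 => hx (by rw [hU.uForm_herm hinv, h0, map_zero])⟩

end U

end CfsgLib.Geo.SL3.Residual
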