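/-
L3(2) in SU(3,5) is contained in a conjugate of 3.A7.
-/
import Cfsg.Agent.Lib.Geo.SL3.Residual.FiveClasses
import Cfsg.Agent.Lib.Geo.SL3.Residual.SevenTrace
import Cfsg.Agent.Lib.Geo.SL3.Residual.Shapes
import Cfsg.Agent.Lib.Geo.SL3.Residual.Transvection

set_option autoImplicit false

namespace CfsgLib.Geo.SL3.Residual

open Matrix Cfsg.Geo CfsgLib.LocalEvenB.UnitaryFive CfsgLib.Classical.Seven Five

variable {F : Type*} [Field F] [Fintype F] [CharP F 5]

theorem gu_isSesq (hF : Fintype.card F = 25) :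
    ∃ σ : F ≃+* F, (∀ a, σ a = a ^ 5) ∧ Asch.IsSesqForm σ (Cfsg.hermForm 3 F 5) := by
  haveI : Fact (Nat.Prime 5) := ⟨by norm_num⟩
  refine ⟨frobeniusEquiv F 5, fun a => rfl, ?_⟩
  exact
    { add_left := fun x y v => by simp [Cfsg.hermForm, add_mul, Finset.sum_add_distrib]
      smul_left := fun a x v => by simp [Cfsg.hermForm, Finset.mul_sum, mul_assoc]
      add_right := fun v x y => by simp [Cfsg.hermForm, add_pow_char, mul_add, Finset.sum_add_distrib]
      smul_right := fun a v x => by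
        simp only [Cfsg.hermForm, Pi.smul_apply, smul_eq_mul, mul_pow, Finset.mul_sum]
        exact Finset.sum_congr rfl fun i _ => by
          show _ = a ^ 5 * _
          ring }

/-- An element fixed by the involution is a norm. -/
theorem exists_sixth_root (hF : Fintype.card F = 25) {c : F} (hc : c ≠ 0) (hc5 : c ^ 5 = c) :
    ∃ d : F, d ^ 6 = c := by
  classical
  obtain ⟨g, hg⟩ := IsCyclic.exists_generator (α := Fˣ)
  have hord : orderOf g = 24 := by
    rw [orderOf_eq_card_of_forall_mem_zpowers hg, Nat.card_units, Nat.card_eq_fintype_card, hF]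
  obtain ⟨k, hk⟩ := hg (Units.mk0 c hc)
  simp only at hk
  have h4 : (Units.mk0 c hc) ^ 4 = 1 := Units.ext (by
    rw [Units.val_pow_eq_pow_val, Units.val_mk0, Units.val_one]
    exact mul_right_cancel₀ hc (by rw [← pow_succ, one_mul]; exact hc5))
  rw [← hk, ← zpow_natCast, ← _root_.zpow_mul, ← orderOf_dvd_iff_zpow_eq_one, hord] at h4
  push_cast at h4
  obtain ⟨m, rfl⟩ : (6 : ℤ) ∣ k := by omega
  refine ⟨((g ^ m : Fˣ) : F), ?_⟩
  rw [← Units.val_pow_eq_pow_val, ← zpow_natCast, ← _root_.zpow_mul, mul_comm]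
  exact (congrArg Units.val hk).trans (Units.val_mk0 hc)

set_option maxHeartbeats 4000000 in
theorem not_maximal_five (hF : Fintype.card F = 25) {H P : Subgroup (GL (Fin 3) F)}
    (hH : IsMaximalIn (Cfsg.GU 3 F 5 ⊓ specialLinear (Fin 3) F) H) (hR : IsResidualCore H P)
    (hQ : ¬ ∃ Q : (Fin 3 → F) → F, IsNondegenerateQuadraticForm Q ∧ FixesQuadForm (matrixSet P) Q)
    (hZ : Zsub P = ⊥) (e : (P ⧸ Zsub P) ≃* Five.S3) : False := by
  classical
  haveI : Fact (Nat.Prime 5) := ⟨by norm_num⟩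
  have hPG : P ≤ Cfsg.GU 3 F 5 ⊓ specialLinear (Fin 3) F := hR.le.trans hH.1.le
  let q : P ≃* P ⧸ Zsub P := (QuotientGroup.quotientBot.symm).trans (QuotientGroup.quotientMulEquivOfEq hZ.symm)
  let θ : Five.S3 ≃* P := (q.trans e).symm
  let ρ₀ : Five.S3 →* GL (Fin 3) F := P.subtype.comp θ.toMonoidHom
  have hinj : Function.Injective ρ₀ := P.subtype_injective.comp θ.injective
  have hdet : ∀ x, ((ρ₀ x : GL (Fin 3) F) : Matrix (Fin 3) (Fin 3) F).det = 1 := fun x => by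
    have h := congrArg Units.val (show Matrix.GeneralLinearGroup.det (θ x : GL (Fin 3) F) = 1 from (hPG (θ x).2).2)
    simpa [ρ₀] using h
  have h2 : (2 : F) ≠ 0 := by
    intro h
    have h' : ((2 : ℕ) : F) = 0 := by exact_mod_cast h
    rw [CharP.cast_eq_zero_iff F 5] at h'
    norm_num at h'
  obtain ⟨s, hs, hst⟩ := trace_match hinj hdet (fun hre => hQ (exists_quad hR.absIrred h2 fun g => by
    have h := real_of_base ρ₀ hre (θ.symm g)
    simp only [ρ₀, MonoidHom.comp_apply, MulEquiv.coe_toMonoidHom, Subgroup.coe_subtype, map_inv,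
      MulEquiv.apply_symm_apply, InvMemClass.coe_inv] at h
    rw [zpow_one, _root_.zpow_neg_one]
    exact h.symm))
  obtain ⟨φ, hφ, hφg⟩ := exists_model hs
  have htrace : ∀ x, (mt (φ x)).trace = ((θ x : GL (Fin 3) F) : Matrix (Fin 3) (Fin 3) F).trace := fun x => by
    obtain ⟨i, rfl⟩ := el3_bijective.2 x
    rw [hφ, trace_imgEl hs, ← hst]
    rfl
  -- the representation is equivalent to the model
  let T : Cfsg.SU 3 F 5 →* GL (Fin 3) F := Matrix.SpecialLinearGroup.toGL.comp (Cfsg.SU 3 F 5).subtype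
  let ρ : P →* GL (Fin 3) F := (T.comp φ).comp θ.symm.toMonoidHom
  obtain ⟨B, hB⟩ := exists_conj_of_trace_eq' hR.absIrred ρ (fun g => by
    show (mt (φ (θ.symm g))).trace = _
    rw [htrace, MulEquiv.apply_symm_apply])
  obtain ⟨σ, hσ, hsesq⟩ := gu_isSesq hF
  set h := Cfsg.hermForm 3 F 5
  set f := fun u v => h ((B : Matrix (Fin 3) (Fin 3) F) *ᵥ u) ((B : Matrix (Fin 3) (Fin 3) F) *ᵥ v) with hf
  have hfs : Asch.IsSesqForm σ f :=
    { add_left := fun x y v => by simp only [hf, Matrix.mulVec_add, hsesq.add_left]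
      smul_left := fun a x v => by simp only [hf, Matrix.mulVec_smul, hsesq.smul_left]
      add_right := fun v x y => by simp only [hf, Matrix.mulVec_add, hsesq.add_right]
      smul_right := fun a v x => by simp only [hf, Matrix.mulVec_smul, hsesq.smul_right] }
  have hffix : FixesForm (matrixSet P) f := by
    rintro _ ⟨g, hg, rfl⟩ u v
    have h1 : T (φ (θ.symm ⟨g, hg⟩)) = B * g * B⁻¹ := hB ⟨g, hg⟩
    have h2 := (φ (θ.symm ⟨g, hg⟩)).2 ((B : Matrix (Fin 3) (Fin 3) F) *ᵥ u) ((B : Matrix (Fin 3) (Fin 3) F) *ᵥ v)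
    have h3 : ∀ w, Cfsg.slToMat 3 F ((φ (θ.symm ⟨g, hg⟩)) : Matrix.SpecialLinearGroup (Fin 3) F) *ᵥ
        ((B : Matrix (Fin 3) (Fin 3) F) *ᵥ w) = (B : Matrix (Fin 3) (Fin 3) F) *ᵥ ((g : Matrix (Fin 3) (Fin 3) F) *ᵥ w) := fun w => by
      show ((T (φ (θ.symm ⟨g, hg⟩)) : GL (Fin 3) F) : Matrix (Fin 3) (Fin 3) F) *ᵥ _ = _
      rw [h1, Units.val_mul, Units.val_mul, ← Matrix.mulVec_mulVec, ← Matrix.mulVec_mulVec,
        Trans.mulVec_cancel_left]
    rw [h3, h3] at h2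
    exact h2
  have hhfix : FixesForm (matrixSet P) h := by
    rintro _ ⟨g, hg, rfl⟩ u v
    exact (hPG hg).1 u v
  have hnd : IsNondegenerateForm h := by
    intro v hv
    obtain ⟨i, hi⟩ : ∃ i, v i ≠ 0 := Function.ne_iff.1 hv
    constructor <;> refine ⟨Pi.single i 1, ?_⟩ <;>
      (simp only [h, Cfsg.hermForm]; rw [Finset.sum_eq_single i (fun j _ hj => by simp [hj]) (by simp)]; simp [hi])
  obtain ⟨c, hc⟩ := Asch.exists_smul_of_fixed hR.absIrred hsesq hfs hnd hhfix hffix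
  have hc0 : c ≠ 0 := fun h0 => by
    have h1 := hc (((B⁻¹ : GL (Fin 3) F) : Matrix (Fin 3) (Fin 3) F) *ᵥ Pi.single 0 1)
      (((B⁻¹ : GL (Fin 3) F) : Matrix (Fin 3) (Fin 3) F) *ᵥ Pi.single 0 1)
    rw [h0, zero_mul] at h1
    simp only [hf, Trans.mulVec_cancel_right] at h1
    simp [h, Cfsg.hermForm, Fin.sum_univ_three] at h1
  have hsymm : ∀ u v, h u v = h v u ^ 5 := fun u v => by
    have hpp : ∀ a : F, (a ^ 5) ^ 5 = a := fun a => by
      rw [← pow_mul, show 5 * 5 = Fintype.card F by rw [hF]]; exact FiniteField.pow_card a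
    simp only [h, Cfsg.hermForm]
    rw [sum_pow_char]
    exact Finset.sum_congr rfl fun i _ => by rw [mul_pow, hpp, mul_comm]
  have hc5 : c ^ 5 = c := by
    have h1 := hc (Pi.single 0 1) (Pi.single 0 1)
    have h11 : h (Pi.single 0 1) (Pi.single 0 1) = 1 := by simp [h, Cfsg.hermForm, Fin.sum_univ_three]
    rw [h11, mul_one] at h1
    rw [← h1, hf]
    exact (hsymm _ _).symm
  obtain ⟨d, hd⟩ := exists_sixth_root hF hc0 hc5
  have hd0 : d ≠ 0 := fun h0 => hc0 (by rw [← hd, h0]; simp)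
  let D : GL (Fin 3) F := Units.map (Matrix.scalar (Fin 3) : F →+* Matrix (Fin 3) (Fin 3) F).toMonoidHom
    (Units.mk0 d hd0)
  have hDv : ∀ w, (D : Matrix (Fin 3) (Fin 3) F) *ᵥ w = d • w := fun w => by
    simp [D, ← Matrix.smul_one_eq_diagonal, Matrix.smul_mulVec]
  have hDc : ∀ x : GL (Fin 3) F, Commute D x := fun x => Units.ext (by simp [D, ← Matrix.smul_one_eq_diagonal])
  set C := D⁻¹ * B with hC
  have hCU : C ∈ Cfsg.GU 3 F 5 := by
    intro u v
    have hval : ∀ w, (B : Matrix (Fin 3) (Fin 3) F) *ᵥ w = d • ((C : Matrix (Fin 3) (Fin 3) F) *ᵥ w) := fun w => by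
      rw [hC, ← hDv, Units.val_mul, Matrix.mulVec_mulVec, ← Matrix.mul_assoc, Units.mul_inv, one_mul]
    have h1 := hc u v
    simp only [hf] at h1
    rw [hval, hval, hsesq.smul_left, hsesq.smul_right, hσ, ← mul_assoc, ← pow_succ', hd] at h1
    exact mul_left_cancel₀ hc0 h1
  -- the overgroup
  let K : Subgroup (GL (Fin 3) F) := ((grp hs).map T).map (MulAut.conj C⁻¹).toMonoidHom
  have hTinj : Function.Injective T := Matrix.SpecialLinearGroup.toGL_injective.comp Subtype.val_injective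
  have hKcard : Nat.card K = 7560 := by
    rw [Subgroup.card_map_of_injective (MulAut.conj C⁻¹).injective, Subgroup.card_map_of_injective hTinj, card_grp]
  have hT : ∀ y : Cfsg.SU 3 F 5, T y ∈ Cfsg.GU 3 F 5 ⊓ specialLinear (Fin 3) F := fun y => by
    refine ⟨y.2, ?_⟩
    show Matrix.GeneralLinearGroup.det (T y) = 1
    exact Units.ext (by simpa [T] using y.1.2)
  have hKle : K ≤ Cfsg.GU 3 F 5 ⊓ specialLinear (Fin 3) F := by
    rintro _ ⟨_, ⟨y, -, rfl⟩, rfl⟩
    refine ⟨?_, ?_⟩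
    · exact (Cfsg.GU 3 F 5).mul_mem ((Cfsg.GU 3 F 5).mul_mem ((Cfsg.GU 3 F 5).inv_mem hCU) (hT y).1)
        ((Cfsg.GU 3 F 5).inv_mem ((Cfsg.GU 3 F 5).inv_mem hCU))
    · show Matrix.GeneralLinearGroup.det (C⁻¹ * T y * C⁻¹⁻¹) = 1
      rw [Trans.det_conj_eq]
      exact (hT y).2
  have hCx : ∀ x, C * (θ x : GL (Fin 3) F) * C⁻¹ = T (φ x) := by
    intro x
    have h1 : T (φ (θ.symm (θ x))) = B * (θ x : GL (Fin 3) F) * B⁻¹ := hB (θ x)
    rw [θ.symm_apply_apply] at h1
    rw [h1, hC, _root_.mul_inv_rev, inv_inv,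
      show D⁻¹ * B * (θ x : GL (Fin 3) F) * (B⁻¹ * D) = D⁻¹ * ((B * (θ x : GL (Fin 3) F) * B⁻¹) * D) by group,
      ← (hDc _).eq, inv_mul_cancel_left]
  have hPK : P ≤ K := fun g hg => ⟨_, ⟨φ (θ.symm ⟨g, hg⟩), hφg _, rfl⟩, by
    show C⁻¹ * T (φ (θ.symm ⟨g, hg⟩)) * C⁻¹⁻¹ = g
    rw [← hCx, θ.apply_symm_apply, inv_inv]
    group⟩
  -- elements of the normaliser induce inner automorphisms
  have hHK : ∀ g ∈ H, g ∈ K ∧ ∃ x ∈ P, x⁻¹ * g ∈ (Subgroup.center (Cfsg.SU 3 F 5)).map T := by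
    intro g hg
    let α₀ : Five.S3 → Five.S3 := fun x => θ.symm ⟨g * θ x * g⁻¹, hR.normal g hg _ (θ x).2⟩
    have hα : ∀ x, (θ (α₀ x) : GL (Fin 3) F) = g * θ x * g⁻¹ := fun x => by simp [α₀]
    let α : Five.S3 →* Five.S3 :=
      { toFun := α₀
        map_one' := θ.injective (Subtype.ext (by rw [hα]; simp))
        map_mul' := fun x y => θ.injective (Subtype.ext (by
          rw [hα, map_mul θ, map_mul θ, Subgroup.coe_mul, Subgroup.coe_mul, hα, hα]; group)) }
    obtain ⟨x, hall⟩ := exists_inner hs hst α (fun u v h => θ.injective (Subtype.ext (by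
      have h1 := congrArg (fun z => (θ z : GL (Fin 3) F)) h
      simp only [α, MonoidHom.coe_mk, OneHom.coe_mk, hα] at h1
      exact mul_left_cancel (mul_right_cancel h1)))) (fun y => by
      show ((θ (α₀ y) : GL (Fin 3) F) : Matrix (Fin 3) (Fin 3) F).trace = _
      rw [hα, Units.val_mul, Units.val_mul, Matrix.trace_mul_cycle, Units.inv_mul, one_mul]
      rfl)
    set z := ((θ x : P) : GL (Fin 3) F)⁻¹ * g with hz
    have hzH : z ∈ H := H.mul_mem (H.inv_mem (hR.le (θ x).2)) hg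
    have hzc : ∀ y ∈ P, z * y * z⁻¹ * y⁻¹ ∈ scalars (Fin 3) F := by
      intro y hy
      have h1 : g * y * g⁻¹ = (θ x : GL (Fin 3) F) * y * (θ x : GL (Fin 3) F)⁻¹ := by
        have h2 := hα (θ.symm ⟨y, hy⟩)
        rw [show α₀ (θ.symm ⟨y, hy⟩) = x * θ.symm ⟨y, hy⟩ * x⁻¹ from hall _, θ.apply_symm_apply] at h2
        rw [← h2, map_mul, map_mul, map_inv, θ.apply_symm_apply]
        rfl
      rw [hz, show (θ x : GL (Fin 3) F)⁻¹ * g * y * ((θ x : GL (Fin 3) F)⁻¹ * g)⁻¹ * y⁻¹ =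
        (θ x : GL (Fin 3) F)⁻¹ * (g * y * g⁻¹) * (θ x : GL (Fin 3) F) * y⁻¹ by group, h1,
        show (θ x : GL (Fin 3) F)⁻¹ * ((θ x : GL (Fin 3) F) * y * (θ x : GL (Fin 3) F)⁻¹) * (θ x : GL (Fin 3) F) *
          y⁻¹ = 1 by group]
      exact one_mem _
    have hzs := hR.centralizer_scalar z hzH hzc
    obtain ⟨hzU, hzS⟩ := hH.1.le hzH
    have hdet : (z : Matrix (Fin 3) (Fin 3) F).det = 1 := by
      have := congrArg Units.val (show Matrix.GeneralLinearGroup.det z = 1 from hzS)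
      simpa using this
    let zs : Cfsg.SU 3 F 5 := ⟨⟨_, hdet⟩, hzU⟩
    have hzs' : zs ∈ Subgroup.center (Cfsg.SU 3 F 5) := by
      rw [Subgroup.mem_center_iff]
      intro y
      obtain ⟨c', hc'⟩ := (mem_scalars_iff _).1 hzs
      apply Subtype.ext
      apply Subtype.ext
      show y.1.1 * (z : Matrix (Fin 3) (Fin 3) F) = (z : Matrix (Fin 3) (Fin 3) F) * y.1.1
      rw [hc']
      simp
    have hzT : T zs = z := Units.ext rfl
    refine ⟨?_, _, (θ x).2, ⟨zs, hzs', hzT⟩⟩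
    have h3 : Nat.card (Subgroup.center (Cfsg.SU 3 F 5)) = 3 := by
      rw [CfsgLib.Classical.Herm.card_center_SU (q := 5) (by rw [hF]; norm_num) 3 le_rfl]; norm_num
    have hzK : z ∈ K := by
      refine ⟨T zs, ⟨zs, center_le_grp hs h3 hzs', rfl⟩, ?_⟩
      show C⁻¹ * T zs * C⁻¹⁻¹ = z
      rw [hzT, ← (Trans.scalar_comm hzs C⁻¹).eq, mul_inv_cancel_right]
    rw [show g = (θ x : GL (Fin 3) F) * z by rw [hz, mul_inv_cancel_left]]
    exact K.mul_mem (hPK (θ x).2) hzK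
  have hHle : H ≤ K := fun g hg => (hHK g hg).1
  have hcardH : Nat.card H ≤ 168 * 3 := by
    choose xP hxP hxc using fun g : H => (hHK g g.2).2
    let Φ : H → P × (Subgroup.center (Cfsg.SU 3 F 5)).map T :=
      fun g => (⟨xP g, hxP g⟩, ⟨(xP g)⁻¹ * g, hxc g⟩)
    have hΦ : Function.Injective Φ := fun g g' h => by
      simp only [Φ, Prod.mk.injEq, Subtype.mk.injEq] at h
      obtain ⟨h1, h2⟩ := h
      rw [h1] at h2
      exact Subtype.ext (mul_left_cancel h2)
    refine (Nat.card_le_card_of_injective Φ hΦ).trans ?_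
    rw [Nat.card_prod, Subgroup.card_map_of_injective hTinj,
      CfsgLib.Classical.Herm.card_center_SU (q := 5) (by rw [hF]; norm_num) 3 le_rfl,
      ← Nat.card_congr θ.toEquiv, ← Nat.card_congr (Equiv.ofBijective el3 el3_bijective), Nat.card_fin]
    norm_num
  rcases hH.2 K hHle hKle with h | h
  · rw [h] at hKcard
    omega
  · have hcU : Nat.card (Cfsg.GU 3 F 5 ⊓ specialLinear (Fin 3) F : Subgroup (GL (Fin 3) F)) =
        Nat.card (Cfsg.SU 3 F 5) := by
      refine Nat.card_congr (Equiv.ofBijective (fun y => (⟨T y, hT y⟩ : ↥(Cfsg.GU 3 F 5 ⊓ specialLinear (Fin 3) F)))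
        ⟨fun y y' h => hTinj (congrArg Subtype.val h), ?_⟩).symm
      rintro ⟨g, hgU, hgS⟩
      have hdet : (g : Matrix (Fin 3) (Fin 3) F).det = 1 := by
        have := congrArg Units.val (show Matrix.GeneralLinearGroup.det g = 1 from hgS)
        simpa using this
      exact ⟨⟨⟨_, hdet⟩, hgU⟩, Subtype.ext (Units.ext rfl)⟩
    rw [h, hcU] at hKcard
    have h3 := CfsgLib.Classical.Herm.card_SU (q := 5) (F := F) (by rw [hF]; norm_num) 3 (by norm_num)
    rw [hKcard, Finset.prod_range_succ, Finset.prod_range_succ, Finset.prod_range_succ, Finset.prod_range_zero] at h3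
    norm_num [parity_simps] at h3

end CfsgLib.Geo.SL3.Residual
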