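/-
Small fields for the residual cores.
-/
import Cfsg.Agent.Lib.Geo.SL3.Residual.Shapes
import Mathlib.LinearAlgebra.Matrix.GeneralLinearGroup.Card

set_option autoImplicit false

namespace CfsgLib.Geo.SL3.Residual

open Cfsg.Geo

variable {F : Type*} [Field F] {L : Subgroup (GL (Fin 3) F)}

/-- The field has order `p` or `p²`. -/
theorem card_cases [Fintype F] (p : ℕ) [Fact p.Prime] [CharP F p] (h : Fintype.card F ≤ p ^ 2) :
    Fintype.card F = p ∨ Fintype.card F = p ^ 2 := by
  obtain ⟨n, hp, hn⟩ := FiniteField.card F p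
  have hle : (n : ℕ) ≤ 2 := (Nat.pow_le_pow_iff_right hp.one_lt).1 (hn ▸ h)
  have hn0 : 0 < (n : ℕ) := n.pos
  rcases (show (n : ℕ) = 1 ∨ (n : ℕ) = 2 by omega) with e | e
  · exact Or.inl (by rw [hn, e, pow_one])
  · exact Or.inr (by rw [hn, e])

/-- A non-trivial scalar gives a cube root of one. -/
theorem three_dvd_of_scalar [Fintype F] (hL : L ≤ specialLinear (Fin 3) F) (hZ : Zsub L ≠ ⊥) :
    3 ∣ Fintype.card F - 1 := by
  classical
  obtain ⟨z, hz, hz1⟩ : ∃ z ∈ Zsub L, z ≠ 1 := by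
    by_contra! h
    exact hZ ((Subgroup.eq_bot_iff_forall _).2 h)
  obtain ⟨c, hc⟩ := (mem_scalars_iff _).1 (Subgroup.mem_subgroupOf.1 hz)
  have h3 := congrArg (fun x : L => ((x : GL (Fin 3) F) : Matrix (Fin 3) (Fin 3) F) 0 0) (scalar_pow_three hL hz)
  simp only [SubmonoidClass.coe_pow, Units.val_pow_eq_pow_val, hc, smul_pow, one_pow, OneMemClass.coe_one,
    Units.val_one, Matrix.smul_apply, Matrix.one_apply_eq, smul_eq_mul, mul_one] at h3
  have hc1 : c ≠ 1 := fun h => hz1 (Subtype.ext (Units.ext (by rw [hc, h, Units.val_one, one_smul]; rfl)))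
  haveI : Fact (Nat.Prime 3) := ⟨Nat.prime_three⟩
  have ho : orderOf c = 3 := orderOf_eq_prime (Units.ext (by simpa using h3)) hc1
  rw [← ho, ← Fintype.card_units]
  exact orderOf_dvd_card

theorem five_dvd_card [Finite F] (h : Nonempty ((L ⧸ Zsub L) ≃* alternatingGroup (Fin 6))) :
    5 ∣ Nat.card L := by
  obtain ⟨e⟩ := h
  have h1 : Nat.card (L ⧸ Zsub L) ∣ Nat.card L := Subgroup.card_quotient_dvd_card _
  refine Dvd.dvd.trans ?_ h1
  rw [Nat.card_congr e.toEquiv, Nat.card_eq_fintype_card]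
  rw [← Nat.card_eq_fintype_card, nat_card_alternatingGroup, Nat.card_eq_fintype_card, Fintype.card_fin]
  decide

/-- GL(3, p) has no element of order five when `p ≡ ±2 mod 5`. -/
theorem not_five_dvd_GL [Fintype F] {p : ℕ} (hF : Fintype.card F = p) (hp : p % 5 = 2 ∨ p % 5 = 3) :
    ¬ 5 ∣ Nat.card (GL (Fin 3) F) := by
  classical
  rw [Matrix.card_GL_field, Fin.prod_univ_three]
  simp only [Fin.val_zero, Fin.val_one, Fin.val_two, hF, pow_zero, pow_one]
  intro h
  have hp0 : p % 5 ≠ 0 := by omega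
  have hle1 : 1 ≤ p ^ 3 := Nat.one_le_pow _ _ (by omega)
  have hle2 : p ≤ p ^ 3 := Nat.le_self_pow (by norm_num) p
  have hle3 : p ^ 2 ≤ p ^ 3 := Nat.pow_le_pow_right (by omega) (by norm_num)
  have e3 : p ^ 3 % 5 = p % 5 * (p % 5) % 5 * (p % 5) % 5 := by
    rw [pow_succ, pow_two, Nat.mul_mod, Nat.mul_mod p p]
  have e2 : p ^ 2 % 5 = p % 5 * (p % 5) % 5 := by rw [pow_two, Nat.mul_mod]
  rcases (Nat.prime_five.dvd_mul).1 h with h | h
  · rcases (Nat.prime_five.dvd_mul).1 h with h | h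
    · rcases hp with h' | h' <;> rw [h'] at e3 <;> norm_num at e3 <;> omega
    · rcases hp with h' | h' <;> rw [h'] at e3 <;> norm_num at e3 <;> omega
  · rcases hp with h' | h' <;> rw [h'] at e3 e2 <;> norm_num at e3 e2 <;> omega

theorem five_not_of_prime [Fintype F] {p : ℕ} (hF : Fintype.card F = p) (hp : p % 5 = 2 ∨ p % 5 = 3)
    (h : Nonempty ((L ⧸ Zsub L) ≃* alternatingGroup (Fin 6))) : False :=
  not_five_dvd_GL hF hp ((five_dvd_card h).trans (Subgroup.card_subgroup_dvd_card L))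

/-- The Frobenius map of a field of order `p²`. -/
theorem exists_frobenius_aut [Fintype F] (p : ℕ) [Fact p.Prime] [CharP F p] (hF : Fintype.card F = p ^ 2) :
    ∃ σ : F ≃+* F, σ ≠ RingEquiv.refl F ∧ (∀ a, σ (σ a) = a) ∧ ∀ a, σ a = a ^ p := by
  refine ⟨frobeniusEquiv F p, ?_, fun a => ?_, fun a => rfl⟩
  · intro h
    classical
    have hp := (Fact.out : p.Prime)
    have hne : (Polynomial.X ^ p - Polynomial.X : Polynomial F) ≠ 0 :=
      FiniteField.X_pow_card_sub_X_ne_zero F hp.one_lt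
    have hc : Fintype.card F ≤ p := by
      calc Fintype.card F = (Finset.univ : Finset F).card := rfl
        _ ≤ (Polynomial.X ^ p - Polynomial.X : Polynomial F).roots.toFinset.card := by
          refine Finset.card_le_card fun x _ => ?_
          rw [Multiset.mem_toFinset, Polynomial.mem_roots hne]
          have hx : x ^ p = x := RingEquiv.congr_fun h x
          simp [hx]
        _ ≤ _ := (Multiset.toFinset_card_le _).trans ((Polynomial.card_roots' _).trans
          (le_of_eq (FiniteField.X_pow_card_sub_X_natDegree_eq F hp.one_lt)))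
    have h2 := hp.two_le
    nlinarith
  · show (a ^ p) ^ p = a
    rw [← pow_mul, ← pow_two, ← hF, FiniteField.pow_card]

theorem traceMap_frobenius (p : ℕ) [Fact p.Prime] [CharP F p] {σ : F ≃+* F} (hσ : ∀ a, σ a = a ^ p)
    (h : TraceMap L (p : ℤ) (-1)) (g : L) : σ (trC g) = trC g⁻¹ := by
  have h1 := trC_pow_char p g 1
  rw [pow_one] at h1
  rw [hσ, ← h1, h g, zpow_neg_one]

/-- Over the prime field the Frobenius condition gives real traces. -/
theorem real_of_prime [Fintype F] (p : ℕ) [Fact p.Prime] [CharP F p] (hF : Fintype.card F = p)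
    (h : TraceMap L (p : ℤ) (-1)) : TraceMap L 1 (-1) := fun g => by
  have h1 := trC_pow_char p g 1
  rw [pow_one] at h1
  rw [← h g, h1, zpow_one]
  conv_lhs => rw [← FiniteField.pow_card (trC g), hF]

end CfsgLib.Geo.SL3.Residual
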