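/-
A core with transvections over no smaller field is SL, SU or 3.A6.
-/
import Cfsg.Agent.Lib.Geo.SL3.Residual.Transvection
import Cfsg.Agent.Lib.Geo.SL3.Residual.Equiv

set_option autoImplicit false

namespace CfsgLib.Geo.SL3.Residual

open Matrix Cfsg.Geo CfsgLib.Geo.Roots CfsgLib.Geo.SL3.Trans

variable {F : Type*} [Field F] {L : Subgroup (GL (Fin 3) F)}

/-- A form pulled back along a change of basis. -/
def pullForm (B : GL (Fin 3) F) (f : (Fin 3 → F) → (Fin 3 → F) → F) (u v : Fin 3 → F) : F :=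
  f ((B : Matrix (Fin 3) (Fin 3) F) *ᵥ u) ((B : Matrix (Fin 3) (Fin 3) F) *ᵥ v)

theorem isQPow_unique [Fintype F] {τ : F ≃+* F} {q m : ℕ} (hF : Fintype.card F = q ^ 2) (hm : m ^ 2 = q ^ 2)
    (h : ∀ a, τ a = a ^ m) (a : F) : τ a = a ^ q := by
  rw [h, Nat.pow_left_injective two_ne_zero hm]

theorem transvection_cases [Fintype F] (hL : IsCore L)
    (hno : ∀ F₀ : Subfield F, F₀ ≠ ⊤ → ¬ RealisableOver F₀ (matrixSet L)) (hT : ¬ NoTransvection L) :
    L = specialLinear (Fin 3) F ∨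
    (∃ (τ : F ≃+* F) (f : (Fin 3 → F) → (Fin 3 → F) → F), IsUnitaryForm τ f ∧ FixesForm (matrixSet L) f ∧
      ∀ q, Fintype.card F = q ^ 2 → 3 ≤ q → L ≤ Cfsg.GU 3 F q →
        Cfsg.GU 3 F q ⊓ specialLinear (Fin 3) F ≤ L) ∨
    ((2 : F) = 0 ∧ Nonempty ((L ⧸ (scalars (Fin 3) F).subgroupOf L) ≃* alternatingGroup (Fin 6)) ∧
      ∃ ω : F, ω ^ 2 + ω + 1 = 0) := by
  classical
  rcases classification hL hT with ⟨k, B, hB⟩ | ⟨B, k, k2, σ, η, -, hU⟩ | h
  · by_cases hk : k = ⊤
    · exact Or.inl (eq_specialLinear hL hB hk)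
    · exact absurd (realisable_of_conjL (B := B) fun g hg i j => slRat_entries (hB ▸ hg) i j) (hno k hk)
  swap
  · exact Or.inr (Or.inr h)
  have hL' := hL.conjL B
  have hT' := not_noTransvection_conjL hT B
  have htop : k2 = ⊤ := by
    by_contra hne
    exact hno k2 hne (realisable_of_conjL (hU.le_entries hL' hT'))
  have hinv : ∀ a, σ (σ a) = a := fun a => hU.invol a (htop ▸ Subfield.mem_top a)
  obtain ⟨τ, hτ, hne, hτinv⟩ := hU.aut htop
  have hfix' := hU.fixesForm hL' hT' hinv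
  have hnd' := hU.nondegenerate hinv
  set f := pullForm B (uForm σ η) with hf
  have hu : IsUnitaryForm τ f :=
    { ne_refl := hne
      involutive := hτinv
      add_left := fun x y v => by simp only [hf, pullForm, Matrix.mulVec_add, uForm_add_left]
      smul_left := fun a x v => by simp only [hf, pullForm, Matrix.mulVec_smul, uForm_smul_left]
      herm := fun v w => by rw [hτ]; exact hU.uForm_herm hinv _ _
      nondegenerate := fun v hv => by
        obtain ⟨⟨x, hx⟩, ⟨y, hy⟩⟩ := hnd' _ (mulVec_ne_zero B hv)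
        refine ⟨⟨((B⁻¹ : GL (Fin 3) F) : Matrix (Fin 3) (Fin 3) F) *ᵥ x, ?_⟩,
          ⟨((B⁻¹ : GL (Fin 3) F) : Matrix (Fin 3) (Fin 3) F) *ᵥ y, ?_⟩⟩ <;>
          simp only [hf, pullForm, mulVec_cancel_right]
        exacts [hx, hy] }
  have hfix : FixesForm (matrixSet L) f := by
    rintro _ ⟨g, hg, rfl⟩ u v
    have hm : B * g * B⁻¹ ∈ Trans.conjL B L := by
      rw [mem_conjL, show B⁻¹ * (B * g * B⁻¹) * B = g by group]; exact hg
    have := hfix' _ ⟨_, hm, rfl⟩ ((B : Matrix (Fin 3) (Fin 3) F) *ᵥ u) ((B : Matrix (Fin 3) (Fin 3) F) *ᵥ v)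
    simp only [Units.val_mul, ← Matrix.mulVec_mulVec, mulVec_cancel_left] at this
    exact this
  refine Or.inr (Or.inl ⟨τ, f, hu, hfix, fun q hq h3 hLU g hg => ?_⟩)
  -- the two forms are proportional
  have hcard2 : Nat.card k2 = q ^ 2 := by
    subst htop
    rw [Nat.card_congr Subfield.topEquiv.toEquiv, Nat.card_eq_fintype_card, hq]
  have hτq : ∀ a, τ a = a ^ q := isQPow_unique hq (hU.card.symm.trans hcard2) (fun a => (hτ a).trans (hU.sigma a))
  have hqn : q ≠ 0 := by omega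
  have hherm : Asch.IsSesqForm τ (Cfsg.hermForm 3 F q) :=
    { add_left := fun x y v => by simp [Cfsg.hermForm, add_mul, Finset.sum_add_distrib]
      smul_left := fun a x v => by simp [Cfsg.hermForm, Finset.mul_sum, mul_assoc]
      add_right := fun v x y => by simp [Cfsg.hermForm, ← hτq, map_add, mul_add, Finset.sum_add_distrib]
      smul_right := fun a v x => by
        simp only [Cfsg.hermForm, ← hτq, Pi.smul_apply, smul_eq_mul, map_mul, Finset.mul_sum]
        exact Finset.sum_congr rfl fun i _ => by ring }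
  have hhfix : FixesForm (matrixSet L) (Cfsg.hermForm 3 F q) := by
    rintro _ ⟨x, hx, rfl⟩ u v
    exact hLU hx u v
  obtain ⟨c0, hc0⟩ := Asch.exists_smul_of_fixed hL.absIrred (Asch.isSesqForm_of_unitary hu) hherm hu.nondegenerate
    hfix hhfix
  have hc00 : c0 ≠ 0 := fun h0 => by
    have := hc0 (Pi.single 0 1) (Pi.single 0 1)
    simp [Cfsg.hermForm, h0, Fin.sum_univ_three, hqn] at this
  -- all unitary transvections lie in the group
  let S : Set (Cfsg.SU 3 F q) := {A | ∃ (v : Fin 3 → F) (c : F), Cfsg.hermForm 3 F q v v = 0 ∧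
    ((A : Matrix.SpecialLinearGroup (Fin 3) F) : Matrix (Fin 3) (Fin 3) F) = Cfsg.unitaryTransvection 3 q v c}
  let Φ : Cfsg.SU 3 F q →* GL (Fin 3) F := Matrix.SpecialLinearGroup.toGL.comp (Cfsg.SU 3 F q).subtype
  have hS : Subgroup.closure S ≤ L.comap Φ := by
    refine (Subgroup.closure_le _).2 ?_
    rintro A ⟨v, a, hiso, hA⟩
    show Φ A ∈ L
    by_cases hv : v = 0
    · have : Φ A = 1 := Units.ext (hA.trans (by simp [Cfsg.unitaryTransvection, hv]))
      rw [this]; exact L.one_mem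
    set w := (B : Matrix (Fin 3) (Fin 3) F) *ᵥ v with hw
    have hw0 : w ≠ 0 := mulVec_ne_zero B hv
    have hwiso : jvec σ η w ⬝ᵥ w = 0 := by
      have h1 := hc0 v v
      rw [hiso] at h1
      have h2 := (mul_eq_zero.1 h1.symm).resolve_left hc00
      exact (mul_eq_zero.1 h2).resolve_left hU.eta_ne
    have hfun : ∀ x, ∑ j, x j * (v j) ^ q =
        c0 * η * (jvec σ η w ⬝ᵥ ((B : Matrix (Fin 3) (Fin 3) F) *ᵥ x)) := fun x => by
      rw [show (∑ j, x j * (v j) ^ q) = Cfsg.hermForm 3 F q x v from rfl, hc0]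
      simp only [hf, pullForm, uForm, hw]
      ring
    set l := a * (c0 * η) with hl
    have hmul : ∀ x, ((B * Φ A * B⁻¹ : GL (Fin 3) F) : Matrix (Fin 3) (Fin 3) F) *ᵥ x =
        x + (l * (jvec σ η w ⬝ᵥ x)) • w := fun x => by
      rw [Units.val_mul, Units.val_mul, ← Matrix.mulVec_mulVec, ← Matrix.mulVec_mulVec,
        show ((Φ A : GL (Fin 3) F) : Matrix (Fin 3) (Fin 3) F) = Cfsg.unitaryTransvection 3 q v a from hA,
        Cfsg.unitaryTransvection, Matrix.add_mulVec, Matrix.one_mulVec, Matrix.smul_mulVec,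
        Matrix.vecMulVec_mulVec, op_smul_eq_smul, smul_smul, Matrix.mulVec_add, mulVec_cancel_right,
        Matrix.mulVec_smul, ← hw]
      congr 2
      rw [dotProduct, hl]
      simp only [mul_comm ((v _) ^ q)]
      rw [hfun, mulVec_cancel_right]
      ring
    -- the transvection keeps the form, so its parameter is fixed
    have hiso2 : ∀ x y, uForm σ η (((B * Φ A * B⁻¹ : GL (Fin 3) F) : Matrix (Fin 3) (Fin 3) F) *ᵥ x)
        (((B * Φ A * B⁻¹ : GL (Fin 3) F) : Matrix (Fin 3) (Fin 3) F) *ᵥ y) = uForm σ η x y := by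
      intro x y
      have h1 := A.2 (((B⁻¹ : GL (Fin 3) F) : Matrix (Fin 3) (Fin 3) F) *ᵥ x)
        (((B⁻¹ : GL (Fin 3) F) : Matrix (Fin 3) (Fin 3) F) *ᵥ y)
      rw [hc0, hc0] at h1
      have h2 := mul_left_cancel₀ hc00 h1
      simp only [hf, pullForm, mulVec_cancel_right] at h2
      simp only [Units.val_mul, ← Matrix.mulVec_mulVec]
      exact h2
    have hlk : l ∈ k := by
      refine (hU.fix l).1 (sub_eq_zero.1 ?_)
      have hjne : jvec σ η w ≠ 0 := fun h0 => hw0 (by
        by_contra hne'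
        obtain ⟨x, hx⟩ := (hnd' w hne').1
        exact hx (by rw [uForm, h0, zero_dotProduct, mul_zero]))
      obtain ⟨i, hi⟩ : ∃ i, jvec σ η w i ≠ 0 := Function.ne_iff.1 hjne
      have h1 := hiso2 (Pi.single i 1) (Pi.single i 1)
      rw [hmul, hU.uForm_transvection hinv hwiso, add_eq_left, dotProduct_single, mul_one] at h1
      refine (mul_eq_zero.1 h1).resolve_right ?_
      exact mul_ne_zero hU.eta_ne (mul_ne_zero hi ((map_ne_zero σ).2 hi))
    obtain ⟨hd, hm⟩ := hU.hasRoot w (fun i => htop ▸ Subfield.mem_top _) hw0 hwiso l hlk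
    have : B * Φ A * B⁻¹ ∈ Trans.conjL B L := by
      convert hm using 1
      refine Roots.ext_mulVec fun x => ?_
      rw [hmul, transvectionGL_mulVec, smul_dotProduct, smul_eq_mul]
    rwa [mem_conjL, show B⁻¹ * (B * Φ A * B⁻¹) * B = Φ A by group] at this
  have hgen := CfsgLib.Classical.Herm.su_closure_transvections hq 3 (by norm_num) (fun _ => by omega)
  obtain ⟨hgU, hgS⟩ := hg
  have hdet : ((g : GL (Fin 3) F) : Matrix (Fin 3) (Fin 3) F).det = 1 := by
    have := congrArg Units.val (show Matrix.GeneralLinearGroup.det g = 1 from hgS)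
    simpa using this
  let A : Cfsg.SU 3 F q := ⟨⟨_, hdet⟩, hgU⟩
  have hA : A ∈ Subgroup.closure S := hgen ▸ Subgroup.mem_top A
  have := hS hA
  rwa [Subgroup.mem_comap, show Φ A = g from Units.ext rfl] at this

end CfsgLib.Geo.SL3.Residual
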