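/-
The residual class of SU(3, q).
-/
import Cfsg.Agent.Lib.Geo.SL3.Residual.Cases
import Cfsg.Agent.Lib.Geo.SL3.Residual.Numeric
import Cfsg.Agent.Lib.Geo.SL3.Residual.TransvectionCases
import Cfsg.Agent.Lib.Geo.SL3.Residual.FiveExclude

set_option autoImplicit false

namespace CfsgLib.Geo.SL3.Residual

open Cfsg.Geo

variable {F : Type*} [Field F] [Fintype F] {q : ℕ}

theorem hermForm_single (hq : q ≠ 0) (i j : Fin 3) :
    Cfsg.hermForm 3 F q (Pi.single i 1) (Pi.single j 1) = if i = j then 1 else 0 := by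
  fin_cases i <;> fin_cases j <;> simp [Cfsg.hermForm, Fin.sum_univ_three, hq]

/-- The trace of the inverse of a unitary matrix. -/
theorem trace_inv_GU (p j : ℕ) [Fact p.Prime] [CharP F p] (hqp : q = p ^ j) {g : GL (Fin 3) F}
    (hg : g ∈ Cfsg.GU 3 F q) :
    ((g⁻¹ : GL (Fin 3) F) : Matrix (Fin 3) (Fin 3) F).trace = (g : Matrix (Fin 3) (Fin 3) F).trace ^ q := by
  have hq : q ≠ 0 := by rw [hqp]; exact pow_ne_zero _ (Fact.out : p.Prime).ne_zero
  set A := (g : Matrix (Fin 3) (Fin 3) F) with hA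
  have hcol : ∀ i, A.mulVec (Pi.single i 1) = fun k => A k i := fun i => funext fun k => by
    fin_cases i <;> simp [Matrix.mulVec, dotProduct, Fin.sum_univ_three]
  have horth : ∀ i k, ∑ l, A l k * A l i ^ q = if k = i then 1 else 0 := fun i k => by
    have h := hg (Pi.single k 1) (Pi.single i 1)
    rw [hermForm_single hq] at h
    rw [← h]
    show _ = Cfsg.hermForm 3 F q (A.mulVec (Pi.single k 1)) (A.mulVec (Pi.single i 1))
    rw [hcol, hcol]
    rfl
  have hinv : (Matrix.of fun i k => A k i ^ q) * A = 1 := by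
    ext i k
    rw [Matrix.mul_apply, Matrix.one_apply]
    simp only [Matrix.of_apply]
    rw [show (∑ l, A l i ^ q * A l k) = ∑ l, A l k * A l i ^ q from Finset.sum_congr rfl fun l _ => mul_comm _ _,
      horth]
    simp only [eq_comm]
  have heq : ((g⁻¹ : GL (Fin 3) F) : Matrix (Fin 3) (Fin 3) F) = Matrix.of fun i k => A k i ^ q := by
    calc ((g⁻¹ : GL (Fin 3) F) : Matrix (Fin 3) (Fin 3) F)
        = ((Matrix.of fun i k => A k i ^ q) * A) * ((g⁻¹ : GL (Fin 3) F) : Matrix (Fin 3) (Fin 3) F) := by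
          rw [hinv, one_mul]
      _ = _ := by rw [Matrix.mul_assoc, hA, Units.mul_inv, mul_one]
  rw [heq, hqp]
  simp only [Matrix.trace, Matrix.diag, Matrix.of_apply]
  rw [sum_pow_char_pow]

theorem not_specialLinear_le_GU (hq : q ≠ 0) : ¬ specialLinear (Fin 3) F ≤ Cfsg.GU 3 F q := by
  intro h
  have hd : (Matrix.transvection (0 : Fin 3) 1 (1 : F)).det = 1 :=
    Matrix.det_transvection_of_ne 0 1 (by decide) 1
  let t : GL (Fin 3) F := Matrix.GeneralLinearGroup.mkOfDetNeZero _ (by rw [hd]; exact one_ne_zero)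
  have ht : t ∈ specialLinear (Fin 3) F := Units.ext (by simpa [t] using hd)
  have h1 := h ht (Pi.single 1 1) (Pi.single 1 1)
  rw [hermForm_single hq, if_pos rfl] at h1
  have e : (Matrix.transvection (0 : Fin 3) 1 (1 : F)).mulVec (Pi.single 1 1) = ![1, 1, 0] := by
    funext k
    fin_cases k <;> simp [Matrix.transvection, Matrix.mulVec, dotProduct, Fin.sum_univ_three, Matrix.single]
  have h2 : Cfsg.hermForm 3 F q ![1, 1, 0] ![1, 1, 0] = 1 := by
    rw [← e]; exact h1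
  simp [Cfsg.hermForm, Fin.sum_univ_three, hq] at h2

theorem three_dvd_succ (hq : q ≠ 0) {P : Subgroup (GL (Fin 3) F)} (hP : P ≤ specialLinear (Fin 3) F)
    (hPU : P ≤ Cfsg.GU 3 F q) (hZ : Zsub P ≠ ⊥) : 3 ∣ q + 1 := by
  obtain ⟨z, hz, hz1⟩ : ∃ z ∈ Zsub P, z ≠ 1 := by
    by_contra! h
    exact hZ ((Subgroup.eq_bot_iff_forall _).2 h)
  obtain ⟨c, hc⟩ := (mem_scalars_iff _).1 (Subgroup.mem_subgroupOf.1 hz)
  have h3 := congrArg (fun x : P => ((x : GL (Fin 3) F) : Matrix (Fin 3) (Fin 3) F) 0 0) (scalar_pow_three hP hz)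
  simp only [SubmonoidClass.coe_pow, Units.val_pow_eq_pow_val, hc, smul_pow, one_pow, OneMemClass.coe_one,
    Units.val_one, Matrix.smul_apply, Matrix.one_apply_eq, smul_eq_mul, mul_one] at h3
  have hc1 : c ≠ 1 := fun h => hz1 (Subtype.ext (Units.ext (by rw [hc, h, Units.val_one, one_smul]; rfl)))
  haveI : Fact (Nat.Prime 3) := ⟨Nat.prime_three⟩
  have ho : orderOf c = 3 := orderOf_eq_prime (Units.ext (by simpa using h3)) hc1
  have h1 := hPU z.2 (Pi.single 0 1) (Pi.single 0 1)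
  have e : (Units.coeHom (Matrix (Fin 3) (Fin 3) F) (z : GL (Fin 3) F)).mulVec (Pi.single 0 1) =
      Pi.single 0 (c : F) := by
    show ((z : GL (Fin 3) F) : Matrix (Fin 3) (Fin 3) F).mulVec _ = _
    rw [hc, Matrix.smul_mulVec, Matrix.one_mulVec, ← Pi.single_smul, smul_eq_mul, mul_one]
  rw [e] at h1
  simp [Cfsg.hermForm, Fin.sum_univ_three, hq] at h1
  rw [← ho]
  refine orderOf_dvd_of_pow_eq_one (Units.ext ?_)
  rw [Units.val_pow_eq_pow_val, Units.val_one, pow_succ']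
  exact h1

/-- GU(3, p) has no element of order five when `p ≡ ±2 mod 5`. -/
theorem not_five_dvd_GU (hF : Fintype.card F = q ^ 2) (hp : q % 5 = 2 ∨ q % 5 = 3) :
    ¬ 5 ∣ Nat.card (Cfsg.GU 3 F q) := by
  rw [CfsgLib.Classical.Herm.card_GU hF 3, Finset.prod_range_succ, Finset.prod_range_succ, Finset.prod_range_succ,
    Finset.prod_range_zero]
  simp only [one_mul, show Even 0 from Even.zero, show ¬ Even 1 by decide, show Even 2 from even_two, if_true,
    if_false, zero_add, pow_one]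
  norm_num
  intro h
  have e2 : q ^ 2 % 5 = q % 5 * (q % 5) % 5 := by rw [pow_two, Nat.mul_mod]
  have e3 : q ^ 3 % 5 = q % 5 * (q % 5) % 5 * (q % 5) % 5 := by
    rw [pow_succ, pow_two, Nat.mul_mod, Nat.mul_mod q q]
  have h1 : 1 ≤ q ^ 2 := Nat.one_le_pow _ _ (by omega)
  rcases Nat.prime_five.dvd_mul.1 h with h | h
  · have := Nat.mod_eq_zero_of_dvd (Nat.prime_five.dvd_of_dvd_pow h)
    omega
  rcases Nat.prime_five.dvd_mul.1 h with h | h
  · rcases Nat.prime_five.dvd_mul.1 h with h | h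
    · omega
    · rcases hp with h' | h' <;> rw [h'] at e2 <;> norm_num at e2 <;> omega
  · rcases hp with h' | h' <;> rw [h'] at e3 <;> norm_num at e3 <;> omega

/-- The socles of the residual class in the unitary case. -/
theorem unitary_socles (p : ℕ) [Fact p.Prime] [CharP F p] (hF : Fintype.card F = q ^ 2) (hq : 3 ≤ q)
    {H P : Subgroup (GL (Fin 3) F)}
    (hH : IsMaximalIn (Cfsg.GU 3 F q ⊓ specialLinear (Fin 3) F) H) (hR : IsResidualCore H P)
    (hQ : ¬ ∃ Q : (Fin 3 → F) → F, IsNondegenerateQuadraticForm Q ∧ FixesQuadForm (matrixSet P) Q) :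
    q.Prime ∧
    ((Nonempty ((P ⧸ (scalars (Fin 3) F).subgroupOf P) ≃* Matrix.ProjectiveSpecialLinearGroup (Fin 3) (ZMod 2)) ∧
        q ≠ 5 ∧ (q % 7 = 3 ∨ q % 7 = 5 ∨ q % 7 = 6)) ∨
     (Nonempty ((P ⧸ (scalars (Fin 3) F).subgroupOf P) ≃* alternatingGroup (Fin 6)) ∧
        (q % 15 = 11 ∨ q % 15 = 14 ∨ q = 5)) ∨
     (Nonempty ((P ⧸ (scalars (Fin 3) F).subgroupOf P) ≃* alternatingGroup (Fin 7)) ∧ q = 5)) := by
  classical
  have hpp := (Fact.out : p.Prime)
  have hPG := hR.le.trans hH.1.le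
  have hPU : P ≤ Cfsg.GU 3 F q := fun g hg => (hPG hg).1
  have hL : IsCore P := IsCore.of_residualCore hR
  have hq0 : q ≠ 0 := by omega
  obtain ⟨n, -, hn⟩ := FiniteField.card F p
  obtain ⟨j, -, hj⟩ := (Nat.dvd_prime_pow hpp).1
    (show q ∣ p ^ (n : ℕ) from ⟨q, by rw [← hn, hF, pow_two]⟩)
  have hj1 : 1 ≤ j := by
    rcases Nat.eq_zero_or_pos j with rfl | h
    · rw [pow_zero] at hj; omega
    · exact h
  have hqp : Fintype.card F ≤ p ^ 2 → q = p := fun h => by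
    rw [hF, hj, ← pow_mul] at h
    have := (Nat.pow_le_pow_iff_right hpp.one_lt).1 h
    rw [hj, show j = 1 by omega, pow_one]
  have noSL : P ≠ specialLinear (Fin 3) F := fun h => not_specialLinear_le_GU hq0 (h ▸ hPU)
  have noU : ¬ Cfsg.GU 3 F q ⊓ specialLinear (Fin 3) F ≤ P := fun h =>
    (ne_of_lt hH.1) (le_antisymm hH.1.le (h.trans hR.le))
  have hb1 : (1 : ℤ) = 1 ∨ (1 : ℤ) = -1 := Or.inl rfl
  have hbm : (-1 : ℤ) = 1 ∨ (-1 : ℤ) = -1 := Or.inr rfl
  by_cases h2 : p = 2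
  · subst h2
    exfalso
    have h20 : (2 : F) = 0 := by exact_mod_cast CharP.cast_eq_zero F 2
    rcases transvection_cases hL hR.no_subfield (not_noTransvection hL h20) with h | ⟨τ, f, -, -, hmax⟩ |
      ⟨-, ⟨e⟩, -⟩
    · exact noSL h
    · exact noU (hmax q hF hq hPU)
    · have := hqp (card_le_of_traceMap 2 hR.absIrred hR.no_subfield two_ne_zero
        (traceMap_six 2 hL.le hb1 (Or.inl rfl) (Or.inr (by norm_num)) e (Or.inl (by norm_num)) (Or.inr (by norm_num))))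
      omega
  have hodd : (2 : F) ≠ 0 := by
    intro h
    have h' : ((2 : ℕ) : F) = 0 := by exact_mod_cast h
    rw [CharP.cast_eq_zero_iff F p] at h'
    exact h2 ((Nat.prime_dvd_prime_iff_eq Fact.out Nat.prime_two).1 h')
  have hp2 : (2 : ℤ) ∣ (p : ℤ) - 1 := by
    have := hpp.eq_two_or_odd.resolve_left h2
    omega
  have noReal : ¬ TraceMap P 1 (-1) := fun h => hQ (exists_quad hR.absIrred hodd h)
  by_cases hT : NoTransvection P
  swap
  · exfalso
    rcases transvection_cases hL hR.no_subfield hT with h | ⟨τ, f, -, -, hmax⟩ | ⟨h, -⟩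
    · exact noSL h
    · exact noU (hmax q hF hq hPU)
    · exact hodd h
  have hsq1 : (2 : ℤ) ∣ ((p ^ 2 : ℕ) : ℤ) - 1 := by
    obtain ⟨c, hc⟩ := hp2
    exact ⟨c * ((p : ℤ) + 1), by push_cast; linear_combination ((p : ℤ) + 1) * hc⟩
  have h3p : p = 3 ∨ ¬ (3 : ℤ) ∣ (p : ℤ) := by
    by_cases h : p = 3
    · exact Or.inl h
    · exact Or.inr fun hd => h ((Nat.prime_dvd_prime_iff_eq Nat.prime_three hpp).1 (by exact_mod_cast hd)).symm
  have h3sq : p = 3 ∨ ¬ (3 : ℤ) ∣ ((p ^ 2 : ℕ) : ℤ) := h3p.imp id fun h hd => h (by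
    push_cast at hd
    exact Int.prime_three.dvd_of_dvd_pow hd)
  have noS : TraceMap P ((p ^ 1 : ℕ) : ℤ) 1 → False := fun h => by
    have hle := card_le_of_traceMap p hR.absIrred hR.no_subfield one_ne_zero h
    rw [hF, hj, pow_one, ← pow_mul] at hle
    have h1 := (Nat.pow_le_pow_iff_right hpp.one_lt).1 (hle.trans_eq (pow_one p).symm)
    omega
  rcases core_types p h2 hL hT with h | ⟨hZ, ⟨e⟩⟩ | ⟨⟨e⟩⟩ | ⟨h5, ⟨e⟩⟩
  · exact absurd h noReal
  · obtain ⟨e'⟩ := nonempty_sl_three_two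
    have hp7 : p ≠ 7 := fun h7 =>
      noReal (traceMap_three_two p hL.le hbm (Or.inr (by norm_num)) (Or.inr (by norm_num)) (e.trans e') hZ
        (Or.inl h7))
    have h70 : p % 7 ≠ 0 := fun h => hp7
      (((Nat.prime_dvd_prime_iff_eq (by norm_num) hpp).1 (Nat.dvd_of_mod_eq_zero h)).symm)
    have hqr : ¬ (p % 7 = 1 ∨ p % 7 = 2 ∨ p % 7 = 4) := fun hqr => noS (by
      rw [pow_one]
      exact traceMap_three_two p hL.le hb1 (Or.inr hp2) h3p (e.trans e') hZ (Or.inr (by omega)))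
    have hqp' : q = p := by
      refine hqp (card_le_of_traceMap p hR.absIrred hR.no_subfield two_ne_zero
        (traceMap_three_two p hL.le hb1 (Or.inr hsq1) h3sq (e.trans e') hZ (Or.inr ?_)))
      obtain ⟨m, r, hm, hr⟩ : ∃ m r : ℕ, (p : ℤ) = 7 * (m : ℤ) + (r : ℤ) ∧ (r = 3 ∨ r = 5 ∨ r = 6) :=
        ⟨p / 7, p % 7, by omega, by omega⟩
      push_cast
      rw [hm]
      rcases hr with rfl | rfl | rfl
      · exact Or.inr (Or.inr ⟨5 + 24 * (m : ℤ) + 28 * (m : ℤ) ^ 2, by push_cast; ring⟩)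
      · exact Or.inr (Or.inl ⟨7 + 20 * (m : ℤ) + 14 * (m : ℤ) ^ 2, by push_cast; ring⟩)
      · exact Or.inl ⟨5 + 12 * (m : ℤ) + 7 * (m : ℤ) ^ 2, by push_cast; ring⟩
    subst hqp'
    refine ⟨hpp, Or.inl ⟨⟨e⟩, fun h5 => ?_, by omega⟩⟩
    subst h5
    exact not_maximal_five (by rw [hF]; norm_num) hH hR hQ hZ (e.trans e')
  · by_cases hZ : Zsub P = ⊥
    · refine absurd (traceMap_six p hL.le hbm (Or.inr (by norm_num)) (Or.inr (by norm_num)) e (Or.inr hZ)
        (Or.inr (Or.inl (by norm_num)))) noReal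
    have hp3 : p ≠ 3 := fun h => by
      subst h
      exact hZ (scalars_trivial_three hL.le)
    have hp3' : ¬ (3 : ℤ) ∣ (p : ℤ) := h3p.resolve_left hp3
    have hqp' : q = p := by
      refine hqp (card_le_of_traceMap p hR.absIrred hR.no_subfield two_ne_zero
        (traceMap_six p hL.le hb1 (Or.inr hsq1) h3sq e (Or.inl ?_) ?_))
      · push_cast
        rw [← Int.emod_add_mul_ediv (p : ℤ) 3]
        rcases (show (p : ℤ) % 3 = 1 ∨ (p : ℤ) % 3 = 2 by omega) with h | h <;> rw [h]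
        · exact Dvd.intro (2 * ((p : ℤ) / 3) + 3 * ((p : ℤ) / 3) ^ 2) (by ring)
        · exact Dvd.intro (1 + 4 * ((p : ℤ) / 3) + 3 * ((p : ℤ) / 3) ^ 2) (by ring)
      · by_cases h5 : p = 5
        · exact Or.inl h5
        refine Or.inr ?_
        have h50 : (p : ℤ) % 5 ≠ 0 := fun h => h5
          (((Nat.prime_dvd_prime_iff_eq Nat.prime_five hpp).1 (by omega)).symm)
        push_cast
        rw [← Int.emod_add_mul_ediv (p : ℤ) 5]
        rcases (show (p : ℤ) % 5 = 1 ∨ (p : ℤ) % 5 = 2 ∨ (p : ℤ) % 5 = 3 ∨ (p : ℤ) % 5 = 4 by omega) with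
          h | h | h | h <;> rw [h]
        · exact Or.inl (Dvd.intro (2 * ((p : ℤ) / 5) + 5 * ((p : ℤ) / 5) ^ 2) (by ring))
        · exact Or.inr (Dvd.intro (1 + 4 * ((p : ℤ) / 5) + 5 * ((p : ℤ) / 5) ^ 2) (by ring))
        · exact Or.inr (Dvd.intro (2 + 6 * ((p : ℤ) / 5) + 5 * ((p : ℤ) / 5) ^ 2) (by ring))
        · exact Or.inl (Dvd.intro (3 + 8 * ((p : ℤ) / 5) + 5 * ((p : ℤ) / 5) ^ 2) (by ring))
    have h3q : 3 ∣ q + 1 := three_dvd_succ hq0 hL.le hPU hZ
    subst hqp'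
    have hnot5 : ¬ (q % 5 = 2 ∨ q % 5 = 3) := fun h5 =>
      not_five_dvd_GU hF h5 ((five_dvd_card ⟨e⟩).trans (Subgroup.card_dvd_of_le hPU))
    refine ⟨hpp, Or.inr (Or.inl ⟨⟨e⟩, ?_⟩)⟩
    by_cases h5 : q = 5
    · exact Or.inr (Or.inr h5)
    · have h50 : q % 5 ≠ 0 := fun h' => h5
        (((Nat.prime_dvd_prime_iff_eq Nat.prime_five hpp).1 (Nat.dvd_of_mod_eq_zero h')).symm)
      omega
  · subst h5
    have hq5 : q = 5 := hqp (card_le_of_traceMap 5 hR.absIrred hR.no_subfield two_ne_zero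
      (traceMap_seven 5 hL.le hb1 (Or.inr (by norm_num)) e rfl (by norm_num) (by norm_num)))
    exact ⟨by rw [hq5]; exact hpp, Or.inr (Or.inr ⟨⟨e⟩, hq5⟩)⟩

end CfsgLib.Geo.SL3.Residual
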