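/-
The residual class of SL(3, q).
-/
import Cfsg.Agent.Lib.Geo.SL3.Residual.Cases
import Cfsg.Agent.Lib.Geo.SL3.Residual.Numeric
import Cfsg.Agent.Lib.Geo.SL3.Residual.TransvectionCases

set_option autoImplicit false

namespace CfsgLib.Geo.SL3.Residual

open Cfsg.Geo

variable {F : Type*} [Field F] [Fintype F]

/-- The socles of the residual class in the linear case. -/
theorem linear_socles (p : ℕ) [Fact p.Prime] [CharP F p] {H P : Subgroup (GL (Fin 3) F)}
    (hH : IsMaximalIn (specialLinear (Fin 3) F) H) (hR : IsResidualCore H P)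
    (hQ : ¬ ∃ Q : (Fin 3 → F) → F, IsNondegenerateQuadraticForm Q ∧ FixesQuadForm (matrixSet P) Q)
    (hS : ¬ ∃ f : (Fin 3 → F) → (Fin 3 → F) → F, IsSymplecticForm f ∧ FixesForm (matrixSet P) f)
    (hU : ¬ ∃ (σ : F ≃+* F) (f : (Fin 3 → F) → (Fin 3 → F) → F), IsUnitaryForm σ f ∧ FixesForm (matrixSet P) f) :
    (Nonempty ((P ⧸ (scalars (Fin 3) F).subgroupOf P) ≃* Matrix.ProjectiveSpecialLinearGroup (Fin 3) (ZMod 2)) ∧
        Fintype.card F = p ∧ p ≠ 2 ∧ (p % 7 = 1 ∨ p % 7 = 2 ∨ p % 7 = 4)) ∨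
     (Nonempty ((P ⧸ (scalars (Fin 3) F).subgroupOf P) ≃* alternatingGroup (Fin 6)) ∧
        ((Fintype.card F = p ∧ (p % 15 = 1 ∨ p % 15 = 4)) ∨
          (Fintype.card F = p ^ 2 ∧ p ≠ 3 ∧ (p % 5 = 2 ∨ p % 5 = 3)))) := by
  classical
  have hpp := (Fact.out : p.Prime)
  have hL : IsCore P := IsCore.of_residualCore hR
  have hb1 : (1 : ℤ) = 1 ∨ (1 : ℤ) = -1 := Or.inl rfl
  have hbm : (-1 : ℤ) = 1 ∨ (-1 : ℤ) = -1 := Or.inr rfl
  -- no unitary trace condition
  have noU : Fintype.card F = p ^ 2 → ¬ TraceMap P (p : ℤ) (-1) := by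
    intro hc h
    obtain ⟨σ, hne, hinv, hσ⟩ := exists_frobenius_aut p hc
    rcases exists_unitary hR.absIrred hne hinv (traceMap_frobenius p hσ h) with h | h | h
    exacts [hQ h, hS h, hU h]
  by_cases h2 : p = 2
  · subst h2
    have h20 : (2 : F) = 0 := by exact_mod_cast CharP.cast_eq_zero F 2
    rcases transvection_cases hL hR.no_subfield (not_noTransvection hL h20) with h | ⟨τ, f, hf, hfix, -⟩ |
      ⟨-, ⟨e⟩, ω, hω⟩
    · exact absurd (le_antisymm hH.1.le (h ▸ hR.le)) (ne_of_lt hH.1)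
    · exact absurd ⟨τ, f, hf, hfix⟩ hU
    refine Or.inr ⟨⟨e⟩, Or.inr ⟨?_, by norm_num, Or.inl rfl⟩⟩
    have hle : Fintype.card F ≤ 2 ^ 2 := card_le_of_traceMap 2 hR.absIrred hR.no_subfield two_ne_zero
      (traceMap_six 2 hL.le hb1 (Or.inl rfl) (Or.inr (by norm_num)) e (Or.inl (by norm_num)) (Or.inr (by norm_num)))
    rcases card_cases 2 hle with hc | hc
    · exfalso
      haveI := hc
      have h2' : ω ^ 2 = ω := by rw [← hc]; exact FiniteField.pow_card ω
      have hu : Finset.univ = ({0, 1} : Finset F) := by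
        symm
        apply Finset.eq_univ_of_card
        rw [Finset.card_pair zero_ne_one, hc]
      rw [h2'] at hω
      have : ω + ω = 0 := by rw [← two_mul, h20, zero_mul]
      rw [this, zero_add] at hω
      exact one_ne_zero hω
    · exact hc
  have hodd : (2 : F) ≠ 0 := by
    intro h
    have h' : ((2 : ℕ) : F) = 0 := by exact_mod_cast h
    rw [CharP.cast_eq_zero_iff F p] at h'
    exact h2 ((Nat.prime_dvd_prime_iff_eq Fact.out Nat.prime_two).1 h')
  have hp2 : (2 : ℤ) ∣ (p : ℤ) - 1 := by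
    have := hpp.eq_two_or_odd.resolve_left h2
    omega
  have noReal : ¬ TraceMap P 1 (-1) := fun h => hQ (exists_quad hR.absIrred hodd h)
  by_cases hT : NoTransvection P
  swap
  · rcases transvection_cases hL hR.no_subfield hT with h | ⟨τ, f, hf, hfix, -⟩ | ⟨h, -⟩
    · exact absurd (le_antisymm hH.1.le (h ▸ hR.le)) (ne_of_lt hH.1)
    · exact absurd ⟨τ, f, hf, hfix⟩ hU
    · exact absurd h hodd
  have hsq1 : (2 : ℤ) ∣ ((p ^ 2 : ℕ) : ℤ) - 1 := by
    obtain ⟨c, hc⟩ := hp2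
    exact ⟨c * ((p : ℤ) + 1), by push_cast; linear_combination ((p : ℤ) + 1) * hc⟩
  have h3p : p = 3 ∨ ¬ (3 : ℤ) ∣ (p : ℤ) := by
    by_cases h : p = 3
    · exact Or.inl h
    · exact Or.inr fun hd => h ((Nat.prime_dvd_prime_iff_eq Nat.prime_three hpp).1 (by exact_mod_cast hd)).symm
  have h3sq : p = 3 ∨ ¬ (3 : ℤ) ∣ ((p ^ 2 : ℕ) : ℤ) := h3p.imp id fun h hd => h (by
    push_cast at hd
    exact Int.prime_three.dvd_of_dvd_pow hd)
  rcases core_types p h2 hL hT with h | ⟨hZ, ⟨e⟩⟩ | ⟨⟨e⟩⟩ | ⟨h5, ⟨e⟩⟩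
  · exact absurd h noReal
  · obtain ⟨e'⟩ := nonempty_sl_three_two
    have hp7 : p ≠ 7 := fun h7 =>
      noReal (traceMap_three_two p hL.le hbm (Or.inr (by norm_num)) (Or.inr (by norm_num)) (e.trans e') hZ
        (Or.inl h7))
    have h70 : p % 7 ≠ 0 := fun h => hp7
      (((Nat.prime_dvd_prime_iff_eq (by norm_num) hpp).1 (Nat.dvd_of_mod_eq_zero h)).symm)
    have hsq : Fintype.card F ≤ p ^ 2 := by
      refine card_le_of_traceMap p hR.absIrred hR.no_subfield two_ne_zero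
        (traceMap_three_two p hL.le hb1 (Or.inr hsq1) h3sq (e.trans e') hZ (Or.inr ?_))
      push_cast
      rw [← Int.emod_add_mul_ediv (p : ℤ) 7]
      have : (p : ℤ) % 7 = 1 ∨ (p : ℤ) % 7 = 2 ∨ (p : ℤ) % 7 = 3 ∨ (p : ℤ) % 7 = 4 ∨ (p : ℤ) % 7 = 5 ∨
          (p : ℤ) % 7 = 6 := by omega
      rcases this with h | h | h | h | h | h <;> rw [h]
      · exact Or.inl (Dvd.intro ((p : ℤ) / 7 * 2 + 7 * ((p : ℤ) / 7) ^ 2) (by ring))
      · exact Or.inr (Or.inl (Dvd.intro (1 + 8 * ((p : ℤ) / 7) + 14 * ((p : ℤ) / 7) ^ 2) (by ring)))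
      · exact Or.inr (Or.inr (Dvd.intro (5 + 24 * ((p : ℤ) / 7) + 28 * ((p : ℤ) / 7) ^ 2) (by ring)))
      · exact Or.inr (Or.inr (Dvd.intro (9 + 32 * ((p : ℤ) / 7) + 28 * ((p : ℤ) / 7) ^ 2) (by ring)))
      · exact Or.inr (Or.inl (Dvd.intro (7 + 20 * ((p : ℤ) / 7) + 14 * ((p : ℤ) / 7) ^ 2) (by ring)))
      · exact Or.inl (Dvd.intro (5 + 12 * ((p : ℤ) / 7) + 7 * ((p : ℤ) / 7) ^ 2) (by ring))
    by_cases hqr : p % 7 = 1 ∨ p % 7 = 2 ∨ p % 7 = 4
    · have hS1 := traceMap_three_two p hL.le hb1 (Or.inr hp2) h3p (e.trans e') hZ (Or.inr (by omega))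
      have hle := card_le_of_traceMap p hR.absIrred hR.no_subfield one_ne_zero (j := 1) (by rwa [pow_one])
      rw [pow_one] at hle
      refine Or.inl ⟨⟨e⟩, ?_, h2, hqr⟩
      rcases card_cases p hsq with hc | hc
      · exact hc
      · have := hpp.two_le
        nlinarith
    · have h7q : (7 : ℤ) ∣ (p : ℤ) - -1 ∨ (7 : ℤ) ∣ 2 * (p : ℤ) - -1 ∨ (7 : ℤ) ∣ 4 * (p : ℤ) - -1 := by
        obtain ⟨m, r, hm, hr⟩ : ∃ m r : ℕ, (p : ℤ) = 7 * (m : ℤ) + (r : ℤ) ∧ (r = 3 ∨ r = 5 ∨ r = 6) :=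
          ⟨p / 7, p % 7, by omega, by omega⟩
        rcases hr with rfl | rfl | rfl <;> norm_num at hm
        · exact Or.inr (Or.inl ⟨2 * (m : ℤ) + 1, by linear_combination (2 : ℤ) * hm⟩)
        · exact Or.inr (Or.inr ⟨4 * (m : ℤ) + 3, by linear_combination (4 : ℤ) * hm⟩)
        · exact Or.inl ⟨(m : ℤ) + 1, by linear_combination hm⟩
      have hU1 := traceMap_three_two p hL.le hbm (Or.inr hp2) h3p (e.trans e') hZ (Or.inr h7q)
      rcases card_cases p hsq with hc | hc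
      · exact absurd (real_of_prime p hc hU1) noReal
      · exact absurd hU1 (noU hc)
  · by_cases hZ : Zsub P = ⊥
    · refine absurd (traceMap_six p hL.le hbm (Or.inr (by norm_num)) (Or.inr (by norm_num)) e (Or.inr hZ)
        (Or.inr (Or.inl (by norm_num)))) noReal
    have hp3 : p ≠ 3 := fun h => by
      subst h
      exact hZ (scalars_trivial_three hL.le)
    have hp3' : ¬ (3 : ℤ) ∣ (p : ℤ) := h3p.resolve_left hp3
    have hsq : Fintype.card F ≤ p ^ 2 := by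
      refine card_le_of_traceMap p hR.absIrred hR.no_subfield two_ne_zero
        (traceMap_six p hL.le hb1 (Or.inr hsq1) h3sq e (Or.inl ?_) ?_)
      · push_cast
        rw [← Int.emod_add_mul_ediv (p : ℤ) 3]
        rcases (show (p : ℤ) % 3 = 1 ∨ (p : ℤ) % 3 = 2 by omega) with h | h <;> rw [h]
        · exact Dvd.intro (2 * ((p : ℤ) / 3) + 3 * ((p : ℤ) / 3) ^ 2) (by ring)
        · exact Dvd.intro (1 + 4 * ((p : ℤ) / 3) + 3 * ((p : ℤ) / 3) ^ 2) (by ring)
      · by_cases h5 : p = 5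
        · exact Or.inl h5
        refine Or.inr ?_
        have h50 : (p : ℤ) % 5 ≠ 0 := fun h => h5
          (((Nat.prime_dvd_prime_iff_eq Nat.prime_five hpp).1 (by omega)).symm)
        push_cast
        rw [← Int.emod_add_mul_ediv (p : ℤ) 5]
        rcases (show (p : ℤ) % 5 = 1 ∨ (p : ℤ) % 5 = 2 ∨ (p : ℤ) % 5 = 3 ∨ (p : ℤ) % 5 = 4 by omega) with
          h | h | h | h <;> rw [h]
        · exact Or.inl (Dvd.intro (2 * ((p : ℤ) / 5) + 5 * ((p : ℤ) / 5) ^ 2) (by ring))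
        · exact Or.inr (Dvd.intro (1 + 4 * ((p : ℤ) / 5) + 5 * ((p : ℤ) / 5) ^ 2) (by ring))
        · exact Or.inr (Dvd.intro (2 + 6 * ((p : ℤ) / 5) + 5 * ((p : ℤ) / 5) ^ 2) (by ring))
        · exact Or.inl (Dvd.intro (3 + 8 * ((p : ℤ) / 5) + 5 * ((p : ℤ) / 5) ^ 2) (by ring))
    have h3q := three_dvd_of_scalar hL.le hZ
    have h5U : p % 3 = 2 → (p = 5 ∨ p % 5 = 1 ∨ p % 5 = 4) → TraceMap P (p : ℤ) (-1) := fun h3 h5 =>
      traceMap_six p hL.le hbm (Or.inr hp2) h3p e (Or.inl (by omega)) (by omega)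
    refine Or.inr ⟨⟨e⟩, ?_⟩
    by_cases h5 : p % 5 = 2 ∨ p % 5 = 3
    · rcases card_cases p hsq with hc | hc
      · exact (five_not_of_prime hc h5 ⟨e⟩).elim
      · exact Or.inr ⟨hc, hp3, h5⟩
    have h5' : p = 5 ∨ p % 5 = 1 ∨ p % 5 = 4 := by
      by_cases h : p = 5
      · exact Or.inl h
      · have : p % 5 ≠ 0 := fun h' => h
          (((Nat.prime_dvd_prime_iff_eq Nat.prime_five hpp).1 (Nat.dvd_of_mod_eq_zero h')).symm)
        omega
    by_cases h31 : p % 3 = 1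
    · have hS1 := traceMap_six p hL.le hb1 (Or.inr hp2) h3p e (Or.inl (by omega)) (by omega)
      have hle := card_le_of_traceMap p hR.absIrred hR.no_subfield one_ne_zero (j := 1) (by rwa [pow_one])
      rw [pow_one] at hle
      refine Or.inl ⟨?_, by omega⟩
      rcases card_cases p hsq with hc | hc
      · exact hc
      · have := hpp.two_le
        nlinarith
    · exfalso
      have h32 : p % 3 = 2 := by omega
      rcases card_cases p hsq with hc | hc
      · omega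
      · exact noU hc (h5U h32 h5')
  · subst h5
    exfalso
    have hle : Fintype.card F ≤ 5 ^ 2 := card_le_of_traceMap 5 hR.absIrred hR.no_subfield two_ne_zero
      (traceMap_seven 5 hL.le hb1 (Or.inr (by norm_num)) e rfl (by norm_num) (by norm_num))
    have hU1 := traceMap_seven 5 hL.le (e := (5 : ℕ)) hbm (Or.inr (by norm_num)) e rfl (by norm_num) (by norm_num)
    rcases card_cases 5 hle with hc | hc
    · exact noReal (real_of_prime 5 hc hU1)
    · exact noU hc hU1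

end CfsgLib.Geo.SL3.Residual
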